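import Cfsg.Agent.H10.Bsgs
import Cfsg.Agent.H10.Tower
import Cfsg.Agent.H35.T1687.PTab

/-!
# Stabiliser-chain data (helper10; generated)
-/

set_option autoImplicit false
set_option linter.all false

namespace Cfsg.Agent.H10.U6A

open Cfsg.Agent.H35 Cfsg.Spor Cfsg.Agent.H10

noncomputable def um_lab_c0 : ℕ → ℕ := (nd 128 (nd 64 (nd 32 (nd 16 (nd 8 (nd 4 (nd 2 (nd 1 (lf (nat_lit 0x0)) (lf (nat_lit 0x2))) (nd 3 (lf (nat_lit 0x1)) (lf (nat_lit 0x10003)))) (nd 6 (nd 5 (lf (nat_lit 0x10002)) (lf (nat_lit 0x20004))) (nd 7 (lf (nat_lit 0x100000000)) (lf (nat_lit 0x20003))))) (nd 12 (nd 10 (nd 9 (lf (nat_lit 0x30005)) (lf (nat_lit 0x60005))) (nd 11 (lf (nat_lit 0x2000200000000)) (lf (nat_lit 0x30004)))) (nd 14 (nd 13 (lf (nat_lit 0x60004)) (lf (nat_lit 0x40006))) (nd 15 (lf (nat_lit 0x60006)) (lf (nat_lit 0x70006)))))) (nd 24 (nd 20 (nd 18 (nd 17 (lf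 (nat_lit 0x1000300000000)) (lf (nat_lit 0x3000300000000))) (nd 19 (lf (nat_lit 0x6000300000000)) (lf (nat_lit 0x40005)))) (nd 22 (nd 21 (lf (nat_lit 0x60005)) (lf (nat_lit 0x70005))) (nd 23 (lf (nat_lit 0x50007)) (lf (nat_lit 0x60007))))) (nd 28 (nd 26 (nd 25 (lf (nat_lit 0x20007)) (lf (nat_lit 0x70007))) (nd 27 (lf (nat_lit 0x3000400000000)) (lf (nat_lit 0x6000400000000)))) (nd 30 (nd 29 (lf (nat_lit 0x4000400000000)) (lf (nat_lit 0x6000400000000))) (nd 31 (lf (nat_lit 0x7000400000000)) (lf (nat_lit 0x50006))))))) (nd 48 (nd 40 (nd 36 (nd 34 (nd 33 (lf (nat_lit 0x60006)) (lf (nat_lit 0x20006))) (nd 35 (lf (nat_lit 0x70006)) (lf (nat_lit 0x60008)))) (nd 38 (nd 37 (lf (nat_lit 0x20008)) (lf (nat_lit 0x70008))) (nd 39 (lf (nat_lit 0x10008)) (lf (nat_lit 0x70008))))) (nd 44 (nd 42 (nd 41 (lf (nat_lit 0x2000500000000)) (lf (nat_lit 0x4000500000000)))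 (nd 43 (lf (nat_lit 0x6000500000000)) (lf (nat_lit 0x2000500000000)))) (nd 46 (nd 45 (lf (nat_lit 0x7000500000000)) (lf (nat_lit 0x5000500000000))) (nd 47 (lf (nat_lit 0x6000500000000)) (lf (nat_lit 0x2000500000000)))))) (nd 56 (nd 52 (nd 50 (nd 49 (lf (nat_lit 0x7000500000000)) (lf (nat_lit 0x60007))) (nd 51 (lf (nat_lit 0x20007)) (lf (nat_lit 0x70007)))) (nd 54 (nd 53 (lf (nat_lit 0x10007)) (lf (nat_lit 0x70007))) (nd 55 (lf (nat_lit 0x20009)) (lf (nat_lit 0x70009))))) (nd 60 (nd 58 (nd 57 (lf (nat_lit 0x10009)) (lf (nat_lit 0x30009))) (nd 59 (lf (nat_lit 0x70009)) (lf (nat_lit 0x4000900000000)))) (nd 62 (nd 61 (lf (nat_lit 0x70009)) (lf (nat_lit 0x60009))) (nd 63 (lf (nat_lit 0x4000600000000)) (lf (nat_lit 0x5000600000000)))))))) (nd 96 (nd 80 (nd 72 (nd 68 (nd 66 (nd 65 (lf (nat_lit 0x6000600000000)) (lf (nat_lit 0x7000600000000))) (nd 67 (lf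 (nat_lit 0x7000600000000)) (lf (nat_lit 0x6000600000000)))) (nd 70 (nd 69 (lf (nat_lit 0x2000600000000)) (lf (nat_lit 0x7000600000000))) (nd 71 (lf (nat_lit 0x7000600000000)) (lf (nat_lit 0x20008))))) (nd 76 (nd 74 (nd 73 (lf (nat_lit 0x70008)) (lf (nat_lit 0x10008))) (nd 75 (lf (nat_lit 0x30008)) (lf (nat_lit 0x70008)))) (nd 78 (nd 77 (lf (nat_lit 0x70008)) (lf (nat_lit 0x60008))) (nd 79 (lf (nat_lit 0x1000a)) (lf (nat_lit 0x3000a)))))) (nd 88 (nd 84 (nd 82 (nd 81 (lf (nat_lit 0x7000a)) (lf (nat_lit 0x9000800000000))) (nd 83 (lf (nat_lit 0x90008)) (lf (nat_lit 0x7000a)))) (nd 86 (nd 85 (lf (nat_lit 0x7000a)) (lf (nat_lit 0x6000a))) (nd 87 (lf (nat_lit 0x9000800000000)) (lf (nat_lit 0x90008))))) (nd 92 (nd 90 (nd 89 (lf (nat_lit 0x3000700000000)) (lf (nat_lit 0x5000700000000))) (nd 91 (lf (nat_lit 0x6000700000000)) (lf (nat_lit 0x7000700000000))))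 (nd 94 (nd 93 (lf (nat_lit 0x6000700000000)) (lf (nat_lit 0x2000700000000))) (nd 95 (lf (nat_lit 0x7000700000000)) (lf (nat_lit 0x3000700000000))))))) (nd 112 (nd 104 (nd 100 (nd 98 (nd 97 (lf (nat_lit 0x7000700000000)) (lf (nat_lit 0x6000700000000))) (nd 99 (lf (nat_lit 0x10009)) (lf (nat_lit 0x30009)))) (nd 102 (nd 101 (lf (nat_lit 0x70009)) (lf (nat_lit 0x90009))) (nd 103 (lf (nat_lit 0x70009)) (lf (nat_lit 0x70009))))) (nd 108 (nd 106 (nd 105 (lf (nat_lit 0x60009)) (lf (nat_lit 0x90009))) (nd 107 (lf (nat_lit 0x9000900000000)) (lf (nat_lit 0x90009)))) (nd 110 (nd 109 (lf (nat_lit 0x7000b)) (lf (nat_lit 0x4000b))) (nd 111 (lf (nat_lit 0x7000b)) (lf (nat_lit 0x6000b)))))) (nd 120 (nd 116 (nd 114 (nd 113 (lf (nat_lit 0x9000700000000)) (lf (nat_lit 0x7000900000000))) (nd 115 (lf (nat_lit 0x90007)) (lf (nat_lit 0x70009)))) (nd 118 (nd 117 (lf (nat_lit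 0x40009)) (lf (nat_lit 0x6000b))) (nd 119 (lf (nat_lit 0x9000700000000)) (lf (nat_lit 0x90007))))) (nd 124 (nd 122 (nd 121 (lf (nat_lit 0x5000800000000)) (lf (nat_lit 0x7000800000000))) (nd 123 (lf (nat_lit 0x3000800000000)) (lf (nat_lit 0x7000800000000)))) (nd 126 (nd 125 (lf (nat_lit 0x7000800000000)) (lf (nat_lit 0x6000800000000))) (nd 127 (lf (nat_lit 0x9000a)) (lf (nat_lit 0x7000a))))))))) (nd 192 (nd 160 (nd 144 (nd 136 (nd 132 (nd 130 (nd 129 (lf (nat_lit 0x4000a)) (lf (nat_lit 0x7000a))) (nd 131 (lf (nat_lit 0x6000a)) (lf (nat_lit 0x90008)))) (nd 134 (nd 133 (lf (nat_lit 0x7000a)) (lf (nat_lit 0x4000a))) (nd 135 (lf (nat_lit 0x6000a)) (lf (nat_lit 0x90008))))) (nd 140 (nd 138 (nd 137 (lf (nat_lit 0x9000800000000)) (lf (nat_lit 0x7000a00000000))) (nd 139 (lf (nat_lit 0x90008)) (lf (nat_lit 0x4000a)))) (nd 142 (nd 141 (lf (nat_lit 0x7000a))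 (lf (nat_lit 0x5000a))) (nd 143 (lf (nat_lit 0x7000c)) (lf (nat_lit 0x6000c)))))) (nd 152 (nd 148 (nd 146 (nd 145 (lf (nat_lit 0x9000600000000)) (lf (nat_lit 0x7000800000000))) (nd 147 (lf (nat_lit 0x4000800000000)) (lf (nat_lit 0x90006)))) (nd 150 (nd 149 (lf (nat_lit 0x70008)) (lf (nat_lit 0x6000a))) (nd 151 (lf (nat_lit 0x40008)) (lf (nat_lit 0x2000c))))) (nd 156 (nd 154 (nd 153 (lf (nat_lit 0x9000600000000)) (lf (nat_lit 0x90006))) (nd 155 (lf (nat_lit 0x4000900000000)) (lf (nat_lit 0x4000900000000)))) (nd 158 (nd 157 (lf (nat_lit 0x7000900000000)) (lf (nat_lit 0x6000900000000))) (nd 159 (lf (nat_lit 0x6000900000000)) (lf (nat_lit 0x90009))))))) (nd 176 (nd 168 (nd 164 (nd 162 (nd 161 (lf (nat_lit 0x4000b)) (lf (nat_lit 0x7000b))) (nd 163 (lf (nat_lit 0x5000b)) (lf (nat_lit 0x7000b)))) (nd 166 (nd 165 (lf (nat_lit 0x6000b)) (lf (nat_lit 0x90007)))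 (nd 167 (lf (nat_lit 0x70009)) (lf (nat_lit 0x6000b))))) (nd 172 (nd 170 (nd 169 (lf (nat_lit 0x40009)) (lf (nat_lit 0x2000b))) (nd 171 (lf (nat_lit 0x90007)) (lf (nat_lit 0x9000700000000)))) (nd 174 (nd 173 (lf (nat_lit 0x4000900000000)) (lf (nat_lit 0x7000900000000))) (nd 175 (lf (nat_lit 0x5000900000000)) (lf (nat_lit 0x40009)))))) (nd 184 (nd 180 (nd 178 (nd 177 (lf (nat_lit 0x90007)) (lf (nat_lit 0x70009))) (nd 179 (lf (nat_lit 0x7000b)) (lf (nat_lit 0x6000b)))) (nd 182 (nd 181 (lf (nat_lit 0x50009)) (lf (nat_lit 0x6000d))) (nd 183 (lf (nat_lit 0x2000d)) (lf (nat_lit 0x9000700000000))))) (nd 188 (nd 186 (nd 185 (lf (nat_lit 0x9000500000000)) (lf (nat_lit 0x7000700000000))) (nd 187 (lf (nat_lit 0x6000900000000)) (lf (nat_lit 0x4000700000000)))) (nd 190 (nd 189 (lf (nat_lit 0x70007)) (lf (nat_lit 0x60009))) (nd 191 (lf (nat_lit 0x2000b)) (lf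 (nat_lit 0x30009)))))))) (nd 224 (nd 208 (nd 200 (nd 196 (nd 194 (nd 193 (lf (nat_lit 0x1000d)) (lf (nat_lit 0x9000700000000))) (nd 195 (lf (nat_lit 0x9000500000000)) (lf (nat_lit 0x40007)))) (nd 198 (nd 197 (lf (nat_lit 0x7000a00000000)) (lf (nat_lit 0x6000a00000000))) (nd 199 (lf (nat_lit 0x2000a00000000)) (lf (nat_lit 0x4000a))))) (nd 204 (nd 202 (nd 201 (lf (nat_lit 0x90008)) (lf (nat_lit 0x7000a))) (nd 203 (lf (nat_lit 0x7000c)) (lf (nat_lit 0x6000c)))) (nd 206 (nd 205 (lf (nat_lit 0x5000a)) (lf (nat_lit 0x6000c))) (nd 207 (lf (nat_lit 0x2000c)) (lf (nat_lit 0x70008)))))) (nd 216 (nd 212 (nd 210 (nd 209 (lf (nat_lit 0x6000a)) (lf (nat_lit 0x2000c))) (nd 211 (lf (nat_lit 0x3000a)) (lf (nat_lit 0x1000c)))) (nd 214 (nd 213 (lf (nat_lit 0x40008)) (lf (nat_lit 0x9000800000000))) (nd 215 (lf (nat_lit 0x4000800000000)) (lf (nat_lit 0x9000600000000)))))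 (nd 220 (nd 218 (nd 217 (lf (nat_lit 0x7000800000000)) (lf (nat_lit 0x7000a00000000))) (nd 219 (lf (nat_lit 0x6000a00000000)) (lf (nat_lit 0x5000800000000)))) (nd 222 (nd 221 (lf (nat_lit 0x3000a)) (lf (nat_lit 0x40008))) (nd 223 (lf (nat_lit 0x7000a)) (lf (nat_lit 0x70008))))))) (nd 240 (nd 232 (nd 228 (nd 226 (nd 225 (lf (nat_lit 0x6000a)) (lf (nat_lit 0x6000c))) (nd 227 (lf (nat_lit 0x2000c)) (lf (nat_lit 0x5000a)))) (nd 230 (nd 229 (lf (nat_lit 0x2000e)) (lf (nat_lit 0x1000e))) (nd 231 (lf (nat_lit 0x9000600000000)) (lf (nat_lit 0x7000800000000))))) (nd 236 (nd 234 (nd 233 (lf (nat_lit 0x7000600000000)) (lf (nat_lit 0x6000800000000))) (nd 235 (lf (nat_lit 0x2000a00000000)) (lf (nat_lit 0x4000800000000)))) (nd 238 (nd 237 (lf (nat_lit 0x3000800000000)) (lf (nat_lit 0x60008))) (nd 239 (lf (nat_lit 0x2000a)) (lf (nat_lit 0x1000c)))))) (nd 248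 (nd 244 (nd 242 (nd 241 (lf (nat_lit 0x2000a)) (lf (nat_lit 0x30008))) (nd 243 (lf (nat_lit 0x2000e)) (lf (nat_lit 0x9000600000000)))) (nd 246 (nd 245 (lf (nat_lit 0x4000600000000)) (lf (nat_lit 0x50008))) (nd 247 (lf (nat_lit 0x6000b00000000)) (lf (nat_lit 0x2000b00000000))))) (nd 252 (nd 250 (nd 249 (lf (nat_lit 0x1000b00000000)) (lf (nat_lit 0x3000b))) (nd 251 (lf (nat_lit 0x40009)) (lf (nat_lit 0x7000b)))) (nd 254 (nd 253 (lf (nat_lit 0x70009)) (lf (nat_lit 0x6000b))) (nd 255 (lf (nat_lit 0x6000d)) (lf (nat_lit 0x2000d))))))))))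
noncomputable def um_lab_c1 : ℕ → ℕ := (nd 384 (nd 320 (nd 288 (nd 272 (nd 264 (nd 260 (nd 258 (nd 257 (lf (nat_lit 0x5000b)) (lf (nat_lit 0x2000d))) (nd 259 (lf (nat_lit 0x1000d)) (lf (nat_lit 0x60009)))) (nd 262 (nd 261 (lf (nat_lit 0x2000b)) (lf (nat_lit 0x1000d))) (nd 263 (lf (nat_lit 0x2000b)) (lf (nat_lit 0x30009))))) (nd 268 (nd 266 (nd 265 (lf (nat_lit 0x9000d)) (lf (nat_lit 0x50009))) (nd 267 (lf (nat_lit 0x4000900000000)) (lf (nat_lit 0x9000700000000)))) (nd 270 (nd 269 (lf (nat_lit 0x7000900000000)) (lf (nat_lit 0x3000900000000))) (nd 271 (lf (nat_lit 0x4000700000000)) (lf (nat_lit 0x7000900000000)))))) (nd 280 (nd 276 (nd 274 (nd 273 (lf (nat_lit 0x7000700000000)) (lf (nat_lit 0x6000900000000))) (nd 275 (lf (nat_lit 0x6000b00000000)) (lf (nat_lit 0x2000b00000000)))) (nd 278 (nd 277 (lf (nat_lit 0x5000900000000)) (lf (nat_lit 0x5000900000000)))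 (nd 279 (lf (nat_lit 0x30009)) (lf (nat_lit 0x7000b))))) (nd 284 (nd 282 (nd 281 (lf (nat_lit 0x70009)) (lf (nat_lit 0x6000b))) (nd 283 (lf (nat_lit 0x60009)) (lf (nat_lit 0x2000b)))) (nd 286 (nd 285 (lf (nat_lit 0x2000d)) (lf (nat_lit 0x1000d))) (nd 287 (lf (nat_lit 0x5000b)) (lf (nat_lit 0x4000b))))))) (nd 304 (nd 296 (nd 292 (nd 290 (nd 289 (lf (nat_lit 0x1000f)) (lf (nat_lit 0x3000f))) (nd 291 (lf (nat_lit 0x2000f)) (lf (nat_lit 0x9000700000000)))) (nd 294 (nd 293 (lf (nat_lit 0x7000700000000)) (lf (nat_lit 0x6000900000000))) (nd 295 (lf (nat_lit 0x6000700000000)) (lf (nat_lit 0x2000900000000))))) (nd 300 (nd 298 (nd 297 (lf (nat_lit 0x1000b00000000)) (lf (nat_lit 0x2000900000000))) (nd 299 (lf (nat_lit 0x3000900000000)) (lf (nat_lit 0x3000700000000)))) (nd 302 (nd 301 (lf (nat_lit 0x20009)) (lf (nat_lit 0x1000b))) (nd 303 (lf (nat_lit 0x3000b))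 (lf (nat_lit 0x6000d)))))) (nd 312 (nd 308 (nd 306 (nd 305 (lf (nat_lit 0x1000b)) (lf (nat_lit 0x20009))) (nd 307 (lf (nat_lit 0x50009)) (lf (nat_lit 0x2000f)))) (nd 310 (nd 309 (lf (nat_lit 0x9000700000000)) (lf (nat_lit 0x4000700000000))) (nd 311 (lf (nat_lit 0x5000700000000)) (lf (nat_lit 0x2000c00000000))))) (nd 316 (nd 314 (nd 313 (lf (nat_lit 0x1000c00000000)) (lf (nat_lit 0x9000c))) (nd 315 (lf (nat_lit 0x3000a)) (lf (nat_lit 0x7000c)))) (nd 318 (nd 317 (lf (nat_lit 0x7000a)) (lf (nat_lit 0x6000c))) (nd 319 (lf (nat_lit 0x6000a)) (lf (nat_lit 0x2000c)))))))) (nd 352 (nd 336 (nd 328 (nd 324 (nd 322 (nd 321 (lf (nat_lit 0x2000e)) (lf (nat_lit 0x1000e))) (nd 323 (lf (nat_lit 0x5000c)) (lf (nat_lit 0x4000c)))) (nd 326 (nd 325 (lf (nat_lit 0x1000e)) (lf (nat_lit 0x3000e))) (nd 327 (lf (nat_lit 0x9000e)) (lf (nat_lit 0x2000a))))) (nd 332 (nd 330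 (nd 329 (lf (nat_lit 0x1000c)) (lf (nat_lit 0x3000c))) (nd 331 (lf (nat_lit 0x9000e)) (lf (nat_lit 0x1000c)))) (nd 334 (nd 333 (lf (nat_lit 0x2000a)) (lf (nat_lit 0x5000a))) (nd 335 (lf (nat_lit 0x9000e)) (lf (nat_lit 0x3000a00000000)))))) (nd 344 (nd 340 (nd 338 (nd 337 (lf (nat_lit 0x4000800000000)) (lf (nat_lit 0x7000a00000000))) (nd 339 (lf (nat_lit 0x9000800000000)) (lf (nat_lit 0x7000800000000)))) (nd 342 (nd 341 (lf (nat_lit 0x6000a00000000)) (lf (nat_lit 0x3000800000000))) (nd 343 (lf (nat_lit 0x7000a00000000)) (lf (nat_lit 0x7000800000000))))) (nd 348 (nd 346 (nd 345 (lf (nat_lit 0x6000a00000000)) (lf (nat_lit 0x6000800000000))) (nd 347 (lf (nat_lit 0x2000a00000000)) (lf (nat_lit 0x2000c00000000)))) (nd 350 (nd 349 (lf (nat_lit 0x1000c00000000)) (lf (nat_lit 0x5000a00000000))) (nd 351 (lf (nat_lit 0x5000a00000000)) (lf (nat_lit 0x4000a00000000)))))))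 (nd 368 (nd 360 (nd 356 (nd 354 (nd 353 (lf (nat_lit 0x2000a)) (lf (nat_lit 0x7000a))) (nd 355 (lf (nat_lit 0x6000c)) (lf (nat_lit 0x6000a)))) (nd 358 (nd 357 (lf (nat_lit 0x2000c)) (lf (nat_lit 0x2000a))) (nd 359 (lf (nat_lit 0x1000c)) (lf (nat_lit 0x3000c))))) (nd 364 (nd 362 (nd 361 (lf (nat_lit 0x1000e)) (lf (nat_lit 0x3000e))) (nd 363 (lf (nat_lit 0x3000e)) (lf (nat_lit 0x5000c)))) (nd 366 (nd 365 (lf (nat_lit 0x4000c)) (lf (nat_lit 0x4000a))) (nd 367 (lf (nat_lit 0x40010)) (lf (nat_lit 0x30010)))))) (nd 376 (nd 372 (nd 370 (nd 369 (lf (nat_lit 0x20010)) (lf (nat_lit 0x9000800000000))) (nd 371 (lf (nat_lit 0x7000800000000)) (lf (nat_lit 0x6000800000000)))) (nd 374 (nd 373 (lf (nat_lit 0x3000a00000000)) (lf (nat_lit 0x2000800000000))) (nd 375 (lf (nat_lit 0x2000a00000000)) (lf (nat_lit 0x3000a00000000))))) (nd 380 (nd 378 (nd 377 (lf (nat_lit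 0x6000c)) (lf (nat_lit 0x2000a00000000))) (nd 379 (lf (nat_lit 0x2000800000000)) (lf (nat_lit 0x6000a00000000)))) (nd 382 (nd 381 (lf (nat_lit 0x3000800000000)) (lf (nat_lit 0x5000800000000))) (nd 383 (lf (nat_lit 0x1000a)) (lf (nat_lit 0x3000a))))))))) (nd 448 (nd 416 (nd 400 (nd 392 (nd 388 (nd 386 (nd 385 (lf (nat_lit 0x1000c)) (lf (nat_lit 0x3000c))) (nd 387 (lf (nat_lit 0x6000a)) (lf (nat_lit 0x6000e)))) (nd 390 (nd 389 (lf (nat_lit 0x1000c)) (lf (nat_lit 0x1000a))) (nd 391 (lf (nat_lit 0x5000a)) (lf (nat_lit 0x4000800000000))))) (nd 396 (nd 394 (nd 393 (lf (nat_lit 0x9000800000000)) (lf (nat_lit 0x5000800000000))) (nd 395 (lf (nat_lit 0x1000d00000000)) (lf (nat_lit 0x3000d00000000)))) (nd 398 (nd 397 (lf (nat_lit 0x9000d)) (lf (nat_lit 0x9000d))) (nd 399 (lf (nat_lit 0x2000b)) (lf (nat_lit 0x7000b)))))) (nd 408 (nd 404 (nd 402 (nd 401 (lf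 (nat_lit 0x6000d)) (lf (nat_lit 0x6000b))) (nd 403 (lf (nat_lit 0x2000d)) (lf (nat_lit 0x2000b)))) (nd 406 (nd 405 (lf (nat_lit 0x1000d)) (lf (nat_lit 0x3000d))) (nd 407 (lf (nat_lit 0x1000f)) (lf (nat_lit 0x3000f))))) (nd 412 (nd 410 (nd 409 (lf (nat_lit 0x9000f)) (lf (nat_lit 0x5000d))) (nd 411 (lf (nat_lit 0x4000d)) (lf (nat_lit 0x4000b)))) (nd 414 (nd 413 (lf (nat_lit 0x4000f)) (lf (nat_lit 0x3000f))) (nd 415 (lf (nat_lit 0x9000f)) (lf (nat_lit 0x1000b))))))) (nd 432 (nd 424 (nd 420 (nd 418 (nd 417 (lf (nat_lit 0x3000b)) (lf (nat_lit 0x3000f))) (nd 419 (lf (nat_lit 0x3000d)) (lf (nat_lit 0x6000b)))) (nd 422 (nd 421 (lf (nat_lit 0x9000f)) (lf (nat_lit 0x6000f))) (nd 423 (lf (nat_lit 0x1000b)) (lf (nat_lit 0x5000b))))) (nd 428 (nd 426 (nd 425 (lf (nat_lit 0x2000b00000000)) (lf (nat_lit 0x3000900000000))) (nd 427 (lf (nat_lit 0x7000b00000000))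 (lf (nat_lit 0x4000900000000)))) (nd 430 (nd 429 (lf (nat_lit 0x7000900000000)) (lf (nat_lit 0x6000b00000000))) (nd 431 (lf (nat_lit 0x9000900000000)) (lf (nat_lit 0x7000900000000)))))) (nd 440 (nd 436 (nd 434 (nd 433 (lf (nat_lit 0x6000900000000)) (lf (nat_lit 0x2000b00000000))) (nd 435 (lf (nat_lit 0x2000900000000)) (lf (nat_lit 0x7000900000000)))) (nd 438 (nd 437 (lf (nat_lit 0x6000b00000000)) (lf (nat_lit 0x6000900000000))) (nd 439 (lf (nat_lit 0x2000b00000000)) (lf (nat_lit 0x2000900000000))))) (nd 444 (nd 442 (nd 441 (lf (nat_lit 0x1000b00000000)) (lf (nat_lit 0x3000b00000000))) (nd 443 (lf (nat_lit 0x1000d00000000)) (lf (nat_lit 0x3000d00000000)))) (nd 446 (nd 445 (lf (nat_lit 0x3000d)) (lf (nat_lit 0x2000b00000000))) (nd 447 (lf (nat_lit 0x4000b00000000)) (lf (nat_lit 0x6000b00000000)))))))) (nd 480 (nd 464 (nd 456 (nd 452 (nd 450 (nd 449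 (lf (nat_lit 0x4000b00000000)) (lf (nat_lit 0x4000900000000))) (nd 451 (lf (nat_lit 0x1000b)) (lf (nat_lit 0x7000b)))) (nd 454 (nd 453 (lf (nat_lit 0x6000b)) (lf (nat_lit 0x2000d))) (nd 455 (lf (nat_lit 0x2000b)) (lf (nat_lit 0x1000d))))) (nd 460 (nd 458 (nd 457 (lf (nat_lit 0x3000d)) (lf (nat_lit 0x1000b))) (nd 459 (lf (nat_lit 0x3000b)) (lf (nat_lit 0x5000d)))) (nd 462 (nd 461 (lf (nat_lit 0x3000d)) (lf (nat_lit 0x4000d))) (nd 463 (lf (nat_lit 0x4000f)) (lf (nat_lit 0x3000f)))))) (nd 472 (nd 468 (nd 466 (nd 465 (lf (nat_lit 0x3000d)) (lf (nat_lit 0x3000f))) (nd 467 (lf (nat_lit 0x1000d)) (lf (nat_lit 0x4000d)))) (nd 470 (nd 469 (lf (nat_lit 0x4000b)) (lf (nat_lit 0x40011))) (nd 471 (lf (nat_lit 0x20011)) (lf (nat_lit 0x20011))))) (nd 476 (nd 474 (nd 473 (lf (nat_lit 0x4000900000000)) (lf (nat_lit 0x7000900000000))) (nd 475 (lf (nat_lit 0x6000900000000))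 (lf (nat_lit 0x2000900000000)))) (nd 478 (nd 477 (lf (nat_lit 0x3000900000000)) (lf (nat_lit 0x4000900000000))) (nd 479 (lf (nat_lit 0x1000900000000)) (lf (nat_lit 0x3000900000000))))))) (nd 496 (nd 488 (nd 484 (nd 482 (nd 481 (lf (nat_lit 0x2000b)) (lf (nat_lit 0x2000b00000000))) (nd 483 (lf (nat_lit 0x6000900000000)) (lf (nat_lit 0x6000d)))) (nd 486 (nd 485 (lf (nat_lit 0x2000b)) (lf (nat_lit 0x6000900000000))) (nd 487 (lf (nat_lit 0x1000900000000)) (lf (nat_lit 0x5000900000000))))) (nd 492 (nd 490 (nd 489 (lf (nat_lit 0x2000900000000)) (lf (nat_lit 0x7000900000000))) (nd 491 (lf (nat_lit 0x5000900000000)) (lf (nat_lit 0x7000d)))) (nd 494 (nd 493 (lf (nat_lit 0x3000b)) (lf (nat_lit 0x4000b))) (nd 495 (lf (nat_lit 0x1000d)) (lf (nat_lit 0x1000d)))))) (nd 504 (nd 500 (nd 498 (nd 497 (lf (nat_lit 0x2000d)) (lf (nat_lit 0x6000b))) (nd 499 (lf (nat_lit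 0x6000b)) (lf (nat_lit 0x1000d)))) (nd 502 (nd 501 (lf (nat_lit 0x1000d)) (lf (nat_lit 0x5000b))) (nd 503 (lf (nat_lit 0x5000900000000)) (lf (nat_lit 0x4000e))))) (nd 508 (nd 506 (nd 505 (lf (nat_lit 0x3000e00000000)) (lf (nat_lit 0x9000e))) (nd 507 (lf (nat_lit 0x1000c)) (lf (nat_lit 0x7000c)))) (nd 510 (nd 509 (lf (nat_lit 0x6000c)) (lf (nat_lit 0x2000e))) (nd 511 (lf (nat_lit 0x2000c)) (lf (nat_lit 0x1000e))))))))))
noncomputable def um_lab_c2 : ℕ → ℕ := (nd 640 (nd 576 (nd 544 (nd 528 (nd 520 (nd 516 (nd 514 (nd 513 (lf (nat_lit 0x3000e)) (lf (nat_lit 0x1000c))) (nd 515 (lf (nat_lit 0x3000c)) (lf (nat_lit 0x50010)))) (nd 518 (nd 517 (lf (nat_lit 0x3000e)) (lf (nat_lit 0x4000e))) (nd 519 (lf (nat_lit 0x40010)) (lf (nat_lit 0x30010))))) (nd 524 (nd 522 (nd 521 (lf (nat_lit 0x3000e)) (lf (nat_lit 0x90010))) (nd 523 (lf (nat_lit 0x60010)) (lf (nat_lit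 0x4000e)))) (nd 526 (nd 525 (lf (nat_lit 0x4000c)) (lf (nat_lit 0x40010))) (nd 527 (lf (nat_lit 0x10010)) (lf (nat_lit 0x20010)))))) (nd 536 (nd 532 (nd 530 (nd 529 (lf (nat_lit 0x3000e)) (lf (nat_lit 0x3000c))) (nd 531 (lf (nat_lit 0x4000c)) (lf (nat_lit 0x3000e)))) (nd 534 (nd 533 (lf (nat_lit 0x4000e)) (lf (nat_lit 0x2000e))) (nd 535 (lf (nat_lit 0x6000c)) (lf (nat_lit 0x6000c))))) (nd 540 (nd 538 (nd 537 (lf (nat_lit 0x6000e)) (lf (nat_lit 0x6000e))) (nd 539 (lf (nat_lit 0x5000c)) (lf (nat_lit 0x9000c00000000)))) (nd 542 (nd 541 (lf (nat_lit 0x7000a00000000)) (lf (nat_lit 0x6000c00000000))) (nd 543 (lf (nat_lit 0x7000a00000000)) (lf (nat_lit 0x6000a00000000))))))) (nd 560 (nd 552 (nd 548 (nd 546 (nd 545 (lf (nat_lit 0x2000c00000000)) (lf (nat_lit 0x7000a00000000))) (nd 547 (lf (nat_lit 0x6000a00000000)) (lf (nat_lit 0x2000a00000000)))) (nd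 550 (nd 549 (lf (nat_lit 0x5000a00000000)) (lf (nat_lit 0x5000a00000000))) (nd 551 (lf (nat_lit 0x7000a00000000)) (lf (nat_lit 0x6000a00000000))))) (nd 556 (nd 554 (nd 553 (lf (nat_lit 0x2000c00000000)) (lf (nat_lit 0x2000a00000000))) (nd 555 (lf (nat_lit 0x1000c00000000)) (lf (nat_lit 0x3000c00000000)))) (nd 558 (nd 557 (lf (nat_lit 0x1000a00000000)) (lf (nat_lit 0x3000a00000000))) (nd 559 (lf (nat_lit 0x5000c)) (lf (nat_lit 0x2000c00000000)))))) (nd 568 (nd 564 (nd 562 (nd 561 (lf (nat_lit 0x4000c00000000)) (lf (nat_lit 0x4000e))) (nd 563 (lf (nat_lit 0x3000e00000000)) (lf (nat_lit 0x3000c00000000)))) (nd 566 (nd 565 (lf (nat_lit 0x3000e)) (lf (nat_lit 0x2000c))) (nd 567 (lf (nat_lit 0x6000a00000000)) (lf (nat_lit 0x2000c00000000))))) (nd 572 (nd 570 (nd 569 (lf (nat_lit 0x4000a00000000)) (lf (nat_lit 0x6000c00000000))) (nd 571 (lf (nat_lit 0x7000a00000000))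 (lf (nat_lit 0x4000a00000000)))) (nd 574 (nd 573 (lf (nat_lit 0x7000c)) (lf (nat_lit 0x6000c))) (nd 575 (lf (nat_lit 0x2000c)) (lf (nat_lit 0x1000e)))))))) (nd 608 (nd 592 (nd 584 (nd 580 (nd 578 (nd 577 (lf (nat_lit 0x3000e)) (lf (nat_lit 0x1000c))) (nd 579 (lf (nat_lit 0x3000c)) (lf (nat_lit 0x4000e)))) (nd 582 (nd 581 (lf (nat_lit 0x3000e)) (lf (nat_lit 0x4000e))) (nd 583 (lf (nat_lit 0x7000e)) (lf (nat_lit 0x3000c))))) (nd 588 (nd 586 (nd 585 (lf (nat_lit 0x4000c)) (lf (nat_lit 0x5000e))) (nd 587 (lf (nat_lit 0x1000e)) (lf (nat_lit 0x2000e)))) (nd 590 (nd 589 (lf (nat_lit 0x4000e)) (lf (nat_lit 0x6000c))) (nd 591 (lf (nat_lit 0x40010)) (lf (nat_lit 0x40010)))))) (nd 600 (nd 596 (nd 594 (nd 593 (lf (nat_lit 0x20010)) (lf (nat_lit 0x3000e))) (nd 595 (lf (nat_lit 0x3000c)) (lf (nat_lit 0x1000e)))) (nd 598 (nd 597 (lf (nat_lit 0x1000e)) (lf (nat_lit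 0x4000c))) (nd 599 (lf (nat_lit 0x20010)) (lf (nat_lit 0x60010))))) (nd 604 (nd 602 (nd 601 (lf (nat_lit 0x60012)) (lf (nat_lit 0x2000a00000000))) (nd 603 (lf (nat_lit 0x1000a00000000)) (lf (nat_lit 0x7000a00000000)))) (nd 606 (nd 605 (lf (nat_lit 0x3000a)) (lf (nat_lit 0x4000800000000))) (nd 607 (lf (nat_lit 0x9000800000000)) (lf (nat_lit 0x7000c))))))) (nd 624 (nd 616 (nd 612 (nd 610 (nd 609 (lf (nat_lit 0x3000a00000000)) (lf (nat_lit 0x4000a00000000))) (nd 611 (lf (nat_lit 0x2000c)) (lf (nat_lit 0x2000c)))) (nd 614 (nd 613 (lf (nat_lit 0x3000a00000000)) (lf (nat_lit 0x6000a00000000))) (nd 615 (lf (nat_lit 0x6000a00000000)) (lf (nat_lit 0x2000c))))) (nd 620 (nd 618 (nd 617 (lf (nat_lit 0x6000a)) (lf (nat_lit 0x2000c))) (nd 619 (lf (nat_lit 0x1000a00000000)) (lf (nat_lit 0x7000800000000)))) (nd 622 (nd 621 (lf (nat_lit 0x5000a00000000)) (lf (nat_lit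 0x5000a00000000))) (nd 623 (lf (nat_lit 0x7000e)) (lf (nat_lit 0x4000e)))))) (nd 632 (nd 628 (nd 626 (nd 625 (lf (nat_lit 0x2000c)) (lf (nat_lit 0x4000c))) (nd 627 (lf (nat_lit 0x5000c)) (lf (nat_lit 0x1000e)))) (nd 630 (nd 629 (lf (nat_lit 0x9000e)) (lf (nat_lit 0x7000e))) (nd 631 (lf (nat_lit 0x2000c)) (lf (nat_lit 0x6000c))))) (nd 636 (nd 634 (nd 633 (lf (nat_lit 0x1000e)) (lf (nat_lit 0x1000e))) (nd 635 (lf (nat_lit 0x4000f)) (lf (nat_lit 0x2000f)))) (nd 638 (nd 637 (lf (nat_lit 0x2000f00000000)) (lf (nat_lit 0x7001100000000))) (nd 639 (lf (nat_lit 0x7000d)) (lf (nat_lit 0x6000d))))))))) (nd 704 (nd 672 (nd 656 (nd 648 (nd 644 (nd 642 (nd 641 (lf (nat_lit 0x2000d)) (lf (nat_lit 0x1000f))) (nd 643 (lf (nat_lit 0x3000f)) (lf (nat_lit 0x1000d)))) (nd 646 (nd 645 (lf (nat_lit 0x3000d)) (lf (nat_lit 0x40011))) (nd 647 (lf (nat_lit 0x3000f)) (lf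 (nat_lit 0x4000f))))) (nd 652 (nd 650 (nd 649 (lf (nat_lit 0x3000f)) (lf (nat_lit 0x3000d))) (nd 651 (lf (nat_lit 0x4000d)) (lf (nat_lit 0x5000f)))) (nd 654 (nd 653 (lf (nat_lit 0x5000f)) (lf (nat_lit 0x2000f))) (nd 655 (lf (nat_lit 0x4000f)) (lf (nat_lit 0x6000d)))))) (nd 664 (nd 660 (nd 658 (nd 657 (lf (nat_lit 0x40011)) (lf (nat_lit 0x20011))) (nd 659 (lf (nat_lit 0x20011)) (lf (nat_lit 0x3000f)))) (nd 662 (nd 661 (lf (nat_lit 0x3000d)) (lf (nat_lit 0x6000f))) (nd 663 (lf (nat_lit 0x60011)) (lf (nat_lit 0x4000d))))) (nd 668 (nd 666 (nd 665 (lf (nat_lit 0x1000f)) (lf (nat_lit 0x1000f))) (nd 667 (lf (nat_lit 0x60011)) (lf (nat_lit 0x3000d)))) (nd 670 (nd 669 (lf (nat_lit 0x2000d)) (lf (nat_lit 0x2000d))) (nd 671 (lf (nat_lit 0x4000d)) (lf (nat_lit 0x5000d))))))) (nd 688 (nd 680 (nd 676 (nd 674 (nd 673 (lf (nat_lit 0x4000d)) (lf (nat_lit 0x6000d)))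 (nd 675 (lf (nat_lit 0x6000d)) (lf (nat_lit 0x6000f)))) (nd 678 (nd 677 (lf (nat_lit 0x9000b00000000)) (lf (nat_lit 0x6000b00000000))) (nd 679 (lf (nat_lit 0x9000b00000000)) (lf (nat_lit 0x6000b00000000))))) (nd 684 (nd 682 (nd 681 (lf (nat_lit 0x2000b00000000)) (lf (nat_lit 0x4000b00000000))) (nd 683 (lf (nat_lit 0x4000d00000000)) (lf (nat_lit 0x2000b00000000)))) (nd 686 (nd 685 (lf (nat_lit 0x1000b00000000)) (lf (nat_lit 0x3000b00000000))) (nd 687 (lf (nat_lit 0x5000b)) (lf (nat_lit 0x5000900000000)))))) (nd 696 (nd 692 (nd 690 (nd 689 (lf (nat_lit 0x5000b00000000)) (lf (nat_lit 0x6000b00000000))) (nd 691 (lf (nat_lit 0x2000b00000000)) (lf (nat_lit 0x9000b00000000)))) (nd 694 (nd 693 (lf (nat_lit 0x3000d00000000)) (lf (nat_lit 0x1000b00000000))) (nd 695 (lf (nat_lit 0x3000b00000000)) (lf (nat_lit 0x4000d))))) (nd 700 (nd 698 (nd 697 (lf (nat_lit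 0x3000d00000000)) (lf (nat_lit 0x4000d00000000))) (nd 699 (lf (nat_lit 0x7000d)) (lf (nat_lit 0x3000b00000000)))) (nd 702 (nd 701 (lf (nat_lit 0x4000b00000000)) (lf (nat_lit 0x5000d))) (nd 703 (lf (nat_lit 0x2000d)) (lf (nat_lit 0x6000b00000000)))))))) (nd 736 (nd 720 (nd 712 (nd 708 (nd 706 (nd 705 (lf (nat_lit 0x2000d00000000)) (lf (nat_lit 0x6000b00000000))) (nd 707 (lf (nat_lit 0x4000f)) (lf (nat_lit 0x4000f)))) (nd 710 (nd 709 (lf (nat_lit 0x4000f00000000)) (lf (nat_lit 0x3000d00000000))) (nd 711 (lf (nat_lit 0x3000b00000000)) (lf (nat_lit 0x2000d))))) (nd 716 (nd 714 (nd 713 (lf (nat_lit 0x6000b)) (lf (nat_lit 0x2000d))) (nd 715 (lf (nat_lit 0x6000b00000000)) (lf (nat_lit 0x7000900000000)))) (nd 718 (nd 717 (lf (nat_lit 0x4000b00000000)) (lf (nat_lit 0x6000d00000000))) (nd 719 (lf (nat_lit 0x4000b00000000)) (lf (nat_lit 0x7000b00000000))))))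 (nd 728 (nd 724 (nd 722 (nd 721 (lf (nat_lit 0x9000900000000)) (lf (nat_lit 0x6000d))) (nd 723 (lf (nat_lit 0x2000d)) (lf (nat_lit 0x1000d)))) (nd 726 (nd 725 (lf (nat_lit 0x3000d)) (lf (nat_lit 0x9000d))) (nd 727 (lf (nat_lit 0x3000f)) (lf (nat_lit 0x4000f))))) (nd 732 (nd 730 (nd 729 (lf (nat_lit 0x9000f)) (lf (nat_lit 0x3000d))) (nd 731 (lf (nat_lit 0x4000d)) (lf (nat_lit 0x4000f)))) (nd 734 (nd 733 (lf (nat_lit 0x3000f)) (lf (nat_lit 0x2000f))) (nd 735 (lf (nat_lit 0x4000f)) (lf (nat_lit 0x6000d))))))) (nd 752 (nd 744 (nd 740 (nd 738 (nd 737 (lf (nat_lit 0x7000f)) (lf (nat_lit 0x1000f))) (nd 739 (lf (nat_lit 0x2000d)) (lf (nat_lit 0x4000d)))) (nd 742 (nd 741 (lf (nat_lit 0x5000d)) (lf (nat_lit 0x1000f))) (nd 743 (lf (nat_lit 0x9000f)) (lf (nat_lit 0x1000f))))) (nd 748 (nd 746 (nd 745 (lf (nat_lit 0x4000f)) (lf (nat_lit 0x6000d))) (nd 747 (lf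 (nat_lit 0x40011)) (lf (nat_lit 0x60011)))) (nd 750 (nd 749 (lf (nat_lit 0x3000f)) (lf (nat_lit 0x2000f))) (nd 751 (lf (nat_lit 0x60011)) (lf (nat_lit 0x3000d)))))) (nd 760 (nd 756 (nd 754 (nd 753 (lf (nat_lit 0x1000f)) (lf (nat_lit 0x9000f))) (nd 755 (lf (nat_lit 0x6000f)) (lf (nat_lit 0x6000f)))) (nd 758 (nd 757 (lf (nat_lit 0x7000f)) (lf (nat_lit 0x90011))) (nd 759 (lf (nat_lit 0x1000b00000000)) (lf (nat_lit 0x7000b))))) (nd 764 (nd 762 (nd 761 (lf (nat_lit 0x7000900000000)) (lf (nat_lit 0x3000b))) (nd 763 (lf (nat_lit 0x40009)) (lf (nat_lit 0x4000900000000)))) (nd 766 (nd 765 (lf (nat_lit 0x9000700000000)) (lf (nat_lit 0x7000d))) (nd 767 (lf (nat_lit 0x4000d)) (lf (nat_lit 0x4000b00000000))))))))))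
noncomputable def um_lab_c3 : ℕ → ℕ := (nd 896 (nd 832 (nd 800 (nd 784 (nd 776 (nd 772 (nd 770 (nd 769 (lf (nat_lit 0x9000b00000000)) (lf (nat_lit 0x5000b00000000))) (nd 771 (lf (nat_lit 0x2000d)) (lf (nat_lit 0x3000b)))) (nd 774 (nd 773 (lf (nat_lit 0x7000d)) (lf (nat_lit 0x7000b00000000))) (nd 775 (lf (nat_lit 0x7000900000000)) (lf (nat_lit 0x6000b00000000))))) (nd 780 (nd 778 (nd 777 (lf (nat_lit 0x6000b)) (lf (nat_lit 0x2000d))) (nd 779 (lf (nat_lit 0x6000b)) (lf (nat_lit 0x70009)))) (nd 782 (nd 781 (lf (nat_lit 0x2000d)) (lf (nat_lit 0x5000b00000000))) (nd 783 (lf (nat_lit 0x4000f)) (lf (nat_lit 0x7000f)))))) (nd 792 (nd 788 (nd 786 (nd 785 (lf (nat_lit 0x9000d)) (lf (nat_lit 0x5000d))) (nd 787 (lf (nat_lit 0x9000d)) (lf (nat_lit 0x7000f)))) (nd 790 (nd 789 (lf (nat_lit 0x2000d)) (lf (nat_lit 0x1000f))) (nd 791 (lf (nat_lit 0x2000e)) (lf (nat_lit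 0x6000e))))) (nd 796 (nd 794 (nd 793 (lf (nat_lit 0x6001000000000)) (lf (nat_lit 0x2000e))) (nd 795 (lf (nat_lit 0x1000e)) (lf (nat_lit 0x3000e)))) (nd 798 (nd 797 (lf (nat_lit 0x90010)) (lf (nat_lit 0x30010))) (nd 799 (lf (nat_lit 0x40010)) (lf (nat_lit 0x40010))))))) (nd 816 (nd 808 (nd 804 (nd 802 (nd 801 (lf (nat_lit 0x3000e)) (lf (nat_lit 0x4000e))) (nd 803 (lf (nat_lit 0x40010)) (lf (nat_lit 0x60012)))) (nd 806 (nd 805 (lf (nat_lit 0x20010)) (lf (nat_lit 0x40010))) (nd 807 (lf (nat_lit 0x6000e)) (lf (nat_lit 0x3000e))))) (nd 812 (nd 810 (nd 809 (lf (nat_lit 0x2000e)) (lf (nat_lit 0x2000e))) (nd 811 (lf (nat_lit 0x4000e)) (lf (nat_lit 0x5000e)))) (nd 814 (nd 813 (lf (nat_lit 0x5000e)) (lf (nat_lit 0x5000e))) (nd 815 (lf (nat_lit 0x50010)) (lf (nat_lit 0x40010)))))) (nd 824 (nd 820 (nd 818 (nd 817 (lf (nat_lit 0x6000e)) (lf (nat_lit 0x20010)))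 (nd 819 (lf (nat_lit 0x30010)) (lf (nat_lit 0x40012)))) (nd 822 (nd 821 (lf (nat_lit 0x20010)) (lf (nat_lit 0x60012))) (nd 823 (lf (nat_lit 0x3000e)) (lf (nat_lit 0x60010))))) (nd 828 (nd 826 (nd 825 (lf (nat_lit 0x60010)) (lf (nat_lit 0x1000e))) (nd 827 (lf (nat_lit 0x6000e)) (lf (nat_lit 0x9000a00000000)))) (nd 830 (nd 829 (lf (nat_lit 0x2000c00000000)) (lf (nat_lit 0x9000a00000000))) (nd 831 (lf (nat_lit 0x9000c00000000)) (lf (nat_lit 0x2000c00000000)))))))) (nd 864 (nd 848 (nd 840 (nd 836 (nd 834 (nd 833 (lf (nat_lit 0x1000c00000000)) (lf (nat_lit 0x9000c00000000))) (nd 835 (lf (nat_lit 0x4000c)) (lf (nat_lit 0x4000c00000000)))) (nd 838 (nd 837 (lf (nat_lit 0x5000c00000000)) (lf (nat_lit 0x1000c00000000))) (nd 839 (lf (nat_lit 0x7000c)) (lf (nat_lit 0x7000a00000000))))) (nd 844 (nd 842 (nd 841 (lf (nat_lit 0x7000c00000000)) (lf (nat_lit 0x5000c)))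 (nd 843 (lf (nat_lit 0x5000a)) (lf (nat_lit 0x5000a00000000)))) (nd 846 (nd 845 (lf (nat_lit 0x5000a00000000)) (lf (nat_lit 0x4000a00000000))) (nd 847 (lf (nat_lit 0x2000c00000000)) (lf (nat_lit 0x1000c00000000)))))) (nd 856 (nd 852 (nd 850 (nd 849 (lf (nat_lit 0x3000c00000000)) (lf (nat_lit 0x9000c))) (nd 851 (lf (nat_lit 0x9000c00000000)) (lf (nat_lit 0x4000e00000000)))) (nd 854 (nd 853 (lf (nat_lit 0x9000e)) (lf (nat_lit 0x3000c00000000))) (nd 855 (lf (nat_lit 0x4000c00000000)) (lf (nat_lit 0x4000e))))) (nd 860 (nd 858 (nd 857 (lf (nat_lit 0x3000e)) (lf (nat_lit 0x3000e00000000))) (nd 859 (lf (nat_lit 0x3000e00000000)) (lf (nat_lit 0x6000c00000000)))) (nd 862 (nd 861 (lf (nat_lit 0x7000e)) (lf (nat_lit 0x2000e))) (nd 863 (lf (nat_lit 0x6000c00000000)) (lf (nat_lit 0x4000c00000000))))))) (nd 880 (nd 872 (nd 868 (nd 866 (nd 865 (lf (nat_lit 0x5000c00000000))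 (lf (nat_lit 0x2000e))) (nd 867 (lf (nat_lit 0x6000c)) (lf (nat_lit 0x2000e)))) (nd 870 (nd 869 (lf (nat_lit 0x6000c00000000)) (lf (nat_lit 0x7000a00000000))) (nd 871 (lf (nat_lit 0x6000c00000000)) (lf (nat_lit 0x40010))))) (nd 876 (nd 874 (nd 873 (lf (nat_lit 0x40010)) (lf (nat_lit 0x3000e))) (nd 875 (lf (nat_lit 0x9000e00000000)) (lf (nat_lit 0x9001000000000)))) (nd 878 (nd 877 (lf (nat_lit 0x3000c00000000)) (lf (nat_lit 0x6000c))) (nd 879 (lf (nat_lit 0x2000e)) (lf (nat_lit 0x6000c)))))) (nd 888 (nd 884 (nd 882 (nd 881 (lf (nat_lit 0x7000a)) (lf (nat_lit 0x9000e))) (nd 883 (lf (nat_lit 0x6000c00000000)) (lf (nat_lit 0x4000c00000000)))) (nd 886 (nd 885 (lf (nat_lit 0x7000a00000000)) (lf (nat_lit 0x9000800000000))) (nd 887 (lf (nat_lit 0x9000c00000000)) (lf (nat_lit 0x7000c00000000))))) (nd 892 (nd 890 (nd 889 (lf (nat_lit 0x3000e)) (lf (nat_lit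 0x7000e))) (nd 891 (lf (nat_lit 0x3000e)) (lf (nat_lit 0x4000e)))) (nd 894 (nd 893 (lf (nat_lit 0x9000e)) (lf (nat_lit 0x9000e))) (nd 895 (lf (nat_lit 0x20010)) (lf (nat_lit 0x40010))))))))) (nd 960 (nd 928 (nd 912 (nd 904 (nd 900 (nd 898 (nd 897 (lf (nat_lit 0x2000e)) (lf (nat_lit 0x90010))) (nd 899 (lf (nat_lit 0x90010)) (lf (nat_lit 0x2000e)))) (nd 902 (nd 901 (lf (nat_lit 0x4000e)) (lf (nat_lit 0x5000e))) (nd 903 (lf (nat_lit 0x30010)) (lf (nat_lit 0x20010))))) (nd 908 (nd 906 (nd 905 (lf (nat_lit 0x30010)) (lf (nat_lit 0x40010))) (nd 907 (lf (nat_lit 0x60010)) (lf (nat_lit 0x6000e)))) (nd 910 (nd 909 (lf (nat_lit 0x10010)) (lf (nat_lit 0x70010))) (nd 911 (lf (nat_lit 0x50010)) (lf (nat_lit 0x4000e)))))) (nd 920 (nd 916 (nd 914 (nd 913 (lf (nat_lit 0x5000e)) (lf (nat_lit 0x9000e))) (nd 915 (lf (nat_lit 0x10010)) (lf (nat_lit 0x9000e)))) (nd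 918 (nd 917 (lf (nat_lit 0x40010)) (lf (nat_lit 0x70010))) (nd 919 (lf (nat_lit 0x30010)) (lf (nat_lit 0x2000e))))) (nd 924 (nd 922 (nd 921 (lf (nat_lit 0x60010)) (lf (nat_lit 0x30010))) (nd 923 (lf (nat_lit 0x60010)) (lf (nat_lit 0x20010)))) (nd 926 (nd 925 (lf (nat_lit 0x70010)) (lf (nat_lit 0x90010))) (nd 927 (lf (nat_lit 0x2000e)) (lf (nat_lit 0x60010))))))) (nd 944 (nd 936 (nd 932 (nd 930 (nd 929 (lf (nat_lit 0x90012)) (lf (nat_lit 0x90010))) (nd 931 (lf (nat_lit 0x6000e)) (lf (nat_lit 0x7000e)))) (nd 934 (nd 933 (lf (nat_lit 0x6000c)) (lf (nat_lit 0x7000c))) (nd 935 (lf (nat_lit 0x7000a)) (lf (nat_lit 0x7000a00000000))))) (nd 940 (nd 938 (nd 937 (lf (nat_lit 0x4000a)) (lf (nat_lit 0x4000a))) (nd 939 (lf (nat_lit 0x90008)) (lf (nat_lit 0x9000800000000)))) (nd 942 (nd 941 (lf (nat_lit 0x7000a00000000)) (lf (nat_lit 0x4000e))) (nd 943 (lf (nat_lit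 0x4000c)) (lf (nat_lit 0x9000c)))))) (nd 952 (nd 948 (nd 946 (nd 945 (lf (nat_lit 0x9000a00000000)) (lf (nat_lit 0x4000a00000000))) (nd 947 (lf (nat_lit 0x9000c00000000)) (lf (nat_lit 0x3000c)))) (nd 950 (nd 949 (lf (nat_lit 0x7000e)) (lf (nat_lit 0x9000c))) (nd 951 (lf (nat_lit 0x7000c)) (lf (nat_lit 0x7000a))))) (nd 956 (nd 954 (nd 953 (lf (nat_lit 0x7000e)) (lf (nat_lit 0x7000c00000000))) (nd 955 (lf (nat_lit 0x6000c)) (lf (nat_lit 0x7000a)))) (nd 958 (nd 957 (lf (nat_lit 0x2000e)) (lf (nat_lit 0x6000c))) (nd 959 (lf (nat_lit 0x3000f)) (lf (nat_lit 0x3000f)))))))) (nd 992 (nd 976 (nd 968 (nd 964 (nd 962 (nd 961 (lf (nat_lit 0x4000f)) (lf (nat_lit 0x90011))) (nd 963 (lf (nat_lit 0x20011)) (lf (nat_lit 0x40011)))) (nd 966 (nd 965 (lf (nat_lit 0x2000f)) (lf (nat_lit 0x4000f))) (nd 967 (lf (nat_lit 0x40011)) (lf (nat_lit 0x2000f))))) (nd 972 (nd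 970 (nd 969 (lf (nat_lit 0x4000f)) (lf (nat_lit 0x5000f))) (nd 971 (lf (nat_lit 0x60011)) (lf (nat_lit 0x60011)))) (nd 974 (nd 973 (lf (nat_lit 0x50011)) (lf (nat_lit 0x40011))) (nd 975 (lf (nat_lit 0x60011)) (lf (nat_lit 0x6000f)))))) (nd 984 (nd 980 (nd 978 (nd 977 (lf (nat_lit 0x2000f)) (lf (nat_lit 0x4000f))) (nd 979 (lf (nat_lit 0x5000f)) (lf (nat_lit 0x5000f)))) (nd 982 (nd 981 (lf (nat_lit 0x30011)) (lf (nat_lit 0x3000f))) (nd 983 (lf (nat_lit 0x40011)) (lf (nat_lit 0x40011))))) (nd 988 (nd 986 (nd 985 (lf (nat_lit 0x60011)) (lf (nat_lit 0x2000f))) (nd 987 (lf (nat_lit 0x60011)) (lf (nat_lit 0x6000f)))) (nd 990 (nd 989 (lf (nat_lit 0x9000900000000)) (lf (nat_lit 0x9000b00000000))) (nd 991 (lf (nat_lit 0x7000b00000000)) (lf (nat_lit 0x9000d00000000))))))) (nd 1008 (nd 1000 (nd 996 (nd 994 (nd 993 (lf (nat_lit 0x9000b)) (lf (nat_lit 0x9000b00000000)))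 (nd 995 (lf (nat_lit 0x5000d00000000)) (lf (nat_lit 0x9000b00000000)))) (nd 998 (nd 997 (lf (nat_lit 0x9000b00000000)) (lf (nat_lit 0x9000d))) (nd 999 (lf (nat_lit 0x9000b00000000)) (lf (nat_lit 0x7000d00000000))))) (nd 1004 (nd 1002 (nd 1001 (lf (nat_lit 0x4000d)) (lf (nat_lit 0x4000d))) (nd 1003 (lf (nat_lit 0x4000d00000000)) (lf (nat_lit 0x5000b00000000)))) (nd 1006 (nd 1005 (lf (nat_lit 0x3000b00000000)) (lf (nat_lit 0x4000d))) (nd 1007 (lf (nat_lit 0x7000d)) (lf (nat_lit 0x7000b)))))) (nd 1016 (nd 1012 (nd 1010 (nd 1009 (lf (nat_lit 0x7000b00000000)) (lf (nat_lit 0x7000b00000000))) (nd 1011 (lf (nat_lit 0x5000b)) (lf (nat_lit 0x5000b)))) (nd 1014 (nd 1013 (lf (nat_lit 0x5000b)) (lf (nat_lit 0x5000b00000000))) (nd 1015 (lf (nat_lit 0x7000b00000000)) (lf (nat_lit 0x4000900000000))))) (nd 1020 (nd 1018 (nd 1017 (lf (nat_lit 0x1000d00000000))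 (lf (nat_lit 0x3000d00000000))) (nd 1019 (lf (nat_lit 0x7000d)) (lf (nat_lit 0x3000d00000000)))) (nd 1022 (nd 1021 (lf (nat_lit 0x4000d00000000)) (lf (nat_lit 0x9000d))) (nd 1023 (lf (nat_lit 0x9000d)) (lf (nat_lit 0x9000d00000000))))))))))
noncomputable def um_lab_c4 : ℕ → ℕ := (nd 1152 (nd 1088 (nd 1056 (nd 1040 (nd 1032 (nd 1028 (nd 1026 (nd 1025 (lf (nat_lit 0x4000d00000000)) (lf (nat_lit 0x2000d00000000))) (nd 1027 (lf (nat_lit 0x9000f)) (lf (nat_lit 0x9000f)))) (nd 1030 (nd 1029 (lf (nat_lit 0x9000d00000000)) (lf (nat_lit 0x4000d00000000))) (nd 1031 (lf (nat_lit 0x5000d00000000)) (lf (nat_lit 0x3000f))))) (nd 1036 (nd 1034 (nd 1033 (lf (nat_lit 0x3000f)) (lf (nat_lit 0x3000f))) (nd 1035 (lf (nat_lit 0x3000f00000000)) (lf (nat_lit 0x6000f00000000)))) (nd 1038 (nd 1037 (lf (nat_lit 0x6000d00000000)) (lf (nat_lit 0x2000f))) (nd 1039 (lf (nat_lit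 0x6000d)) (lf (nat_lit 0x5000f)))))) (nd 1048 (nd 1044 (nd 1042 (nd 1041 (lf (nat_lit 0x5000d00000000)) (lf (nat_lit 0x7000b00000000))) (nd 1043 (lf (nat_lit 0x4000d00000000)) (lf (nat_lit 0x6000d)))) (nd 1046 (nd 1045 (lf (nat_lit 0x2000f)) (lf (nat_lit 0x9000d))) (nd 1047 (lf (nat_lit 0x6000d)) (lf (nat_lit 0x7000b))))) (nd 1052 (nd 1050 (nd 1049 (lf (nat_lit 0x7000f)) (lf (nat_lit 0x4000d00000000))) (nd 1051 (lf (nat_lit 0x7000d00000000)) (lf (nat_lit 0x7000b00000000)))) (nd 1054 (nd 1053 (lf (nat_lit 0x9000900000000)) (lf (nat_lit 0x40011))) (nd 1055 (lf (nat_lit 0x3000f)) (lf (nat_lit 0x40011))))))) (nd 1072 (nd 1064 (nd 1060 (nd 1058 (nd 1057 (lf (nat_lit 0x9000f)) (lf (nat_lit 0x90011))) (nd 1059 (lf (nat_lit 0x9000f)) (lf (nat_lit 0x9000d00000000)))) (nd 1062 (nd 1061 (lf (nat_lit 0x9000d00000000)) (lf (nat_lit 0x9000f00000000))) (nd 1063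 (lf (nat_lit 0x4001100000000)) (lf (nat_lit 0x6000d))))) (nd 1068 (nd 1066 (nd 1065 (lf (nat_lit 0x7000b)) (lf (nat_lit 0x9000f))) (nd 1067 (lf (nat_lit 0x6000d)) (lf (nat_lit 0x9000d)))) (nd 1070 (nd 1069 (lf (nat_lit 0x7000b)) (lf (nat_lit 0x90009))) (nd 1071 (lf (nat_lit 0x9000b00000000)) (lf (nat_lit 0x7000b00000000)))))) (nd 1080 (nd 1076 (nd 1074 (nd 1073 (lf (nat_lit 0x9000b00000000)) (lf (nat_lit 0x4000f))) (nd 1075 (lf (nat_lit 0x7000f)) (lf (nat_lit 0x2000f)))) (nd 1078 (nd 1077 (lf (nat_lit 0x4000f)) (lf (nat_lit 0x5000f))) (nd 1079 (lf (nat_lit 0x9000f)) (lf (nat_lit 0x9000f))))) (nd 1084 (nd 1082 (nd 1081 (lf (nat_lit 0x4000f)) (lf (nat_lit 0x40011))) (nd 1083 (lf (nat_lit 0x60011)) (lf (nat_lit 0x1000f)))) (nd 1086 (nd 1085 (lf (nat_lit 0x90011)) (lf (nat_lit 0x90011))) (nd 1087 (lf (nat_lit 0x50011)) (lf (nat_lit 0x4000f))))))))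 (nd 1120 (nd 1104 (nd 1096 (nd 1092 (nd 1090 (nd 1089 (lf (nat_lit 0x6000f)) (lf (nat_lit 0x5000f))) (nd 1091 (lf (nat_lit 0x20011)) (lf (nat_lit 0x30011)))) (nd 1094 (nd 1093 (lf (nat_lit 0x20011)) (lf (nat_lit 0x20011))) (nd 1095 (lf (nat_lit 0x70011)) (lf (nat_lit 0x70011))))) (nd 1100 (nd 1098 (nd 1097 (lf (nat_lit 0x30011)) (lf (nat_lit 0x2000f))) (nd 1099 (lf (nat_lit 0x60011)) (lf (nat_lit 0x70011)))) (nd 1102 (nd 1101 (lf (nat_lit 0x50011)) (lf (nat_lit 0x7000f))) (nd 1103 (lf (nat_lit 0x70011)) (lf (nat_lit 0x4000f)))))) (nd 1112 (nd 1108 (nd 1106 (nd 1105 (lf (nat_lit 0x3000f)) (lf (nat_lit 0x9000d))) (nd 1107 (lf (nat_lit 0x4000f)) (lf (nat_lit 0x30011)))) (nd 1110 (nd 1109 (lf (nat_lit 0x3000f)) (lf (nat_lit 0x6000f))) (nd 1111 (lf (nat_lit 0x20011)) (lf (nat_lit 0x90011))))) (nd 1116 (nd 1114 (nd 1113 (lf (nat_lit 0x50011)) (lf (nat_lit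 0x7000f))) (nd 1115 (lf (nat_lit 0x10011)) (lf (nat_lit 0x70011)))) (nd 1118 (nd 1117 (lf (nat_lit 0x6000f)) (lf (nat_lit 0x70011))) (nd 1119 (lf (nat_lit 0x7000d)) (lf (nat_lit 0x6000d))))))) (nd 1136 (nd 1128 (nd 1124 (nd 1122 (nd 1121 (lf (nat_lit 0x7000b)) (lf (nat_lit 0x7000b))) (nd 1123 (lf (nat_lit 0x4000b)) (lf (nat_lit 0x90009)))) (nd 1126 (nd 1125 (lf (nat_lit 0x9000b)) (lf (nat_lit 0x90009))) (nd 1127 (lf (nat_lit 0x9000b)) (lf (nat_lit 0x9000900000000))))) (nd 1132 (nd 1130 (nd 1129 (lf (nat_lit 0x9000900000000)) (lf (nat_lit 0x4000d))) (nd 1131 (lf (nat_lit 0x7000d)) (lf (nat_lit 0x9000b)))) (nd 1134 (nd 1133 (lf (nat_lit 0x4000b)) (lf (nat_lit 0x9000b00000000))) (nd 1135 (lf (nat_lit 0x7000b)) (lf (nat_lit 0x9000b)))))) (nd 1144 (nd 1140 (nd 1138 (nd 1137 (lf (nat_lit 0x7000d)) (lf (nat_lit 0x6000d))) (nd 1139 (lf (nat_lit 0x40010))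 (lf (nat_lit 0x20010)))) (nd 1142 (nd 1141 (lf (nat_lit 0x40010)) (lf (nat_lit 0x50010))) (nd 1143 (lf (nat_lit 0x70012)) (lf (nat_lit 0x70012))))) (nd 1148 (nd 1146 (nd 1145 (lf (nat_lit 0x40012)) (lf (nat_lit 0x60012))) (nd 1147 (lf (nat_lit 0x10010)) (lf (nat_lit 0x40010)))) (nd 1150 (nd 1149 (lf (nat_lit 0x70012)) (lf (nat_lit 0x30010))) (nd 1151 (lf (nat_lit 0x40010)) (lf (nat_lit 0x60010))))))))) (nd 1216 (nd 1184 (nd 1168 (nd 1160 (nd 1156 (nd 1154 (nd 1153 (lf (nat_lit 0x50010)) (lf (nat_lit 0x60010))) (nd 1155 (lf (nat_lit 0x50010)) (lf (nat_lit 0x60012)))) (nd 1158 (nd 1157 (lf (nat_lit 0x30010)) (lf (nat_lit 0x30012))) (nd 1159 (lf (nat_lit 0x20010)) (lf (nat_lit 0x60012))))) (nd 1164 (nd 1162 (nd 1161 (lf (nat_lit 0x40010)) (lf (nat_lit 0x60010))) (nd 1163 (lf (nat_lit 0x50012)) (lf (nat_lit 0x60010)))) (nd 1166 (nd 1165 (lf (nat_lit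 0x9000a)) (lf (nat_lit 0x9000a00000000))) (nd 1167 (lf (nat_lit 0x4000c00000000)) (lf (nat_lit 0x7000c)))))) (nd 1176 (nd 1172 (nd 1170 (nd 1169 (lf (nat_lit 0x7000c00000000)) (lf (nat_lit 0x9000c00000000))) (nd 1171 (lf (nat_lit 0x9000c)) (lf (nat_lit 0x9000c)))) (nd 1174 (nd 1173 (lf (nat_lit 0x9000c00000000)) (lf (nat_lit 0x4000c00000000))) (nd 1175 (lf (nat_lit 0x2000c00000000)) (lf (nat_lit 0x9000c))))) (nd 1180 (nd 1178 (nd 1177 (lf (nat_lit 0x9000a00000000)) (lf (nat_lit 0x9000e))) (nd 1179 (lf (nat_lit 0x9000c)) (lf (nat_lit 0x9000c00000000)))) (nd 1182 (nd 1181 (lf (nat_lit 0x7000c00000000)) (lf (nat_lit 0x4000e))) (nd 1183 (lf (nat_lit 0x4000e)) (lf (nat_lit 0x5000c))))))) (nd 1200 (nd 1192 (nd 1188 (nd 1186 (nd 1185 (lf (nat_lit 0x5000c00000000)) (lf (nat_lit 0x6000e00000000))) (nd 1187 (lf (nat_lit 0x3000a00000000)) (lf (nat_lit 0x4000e))))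 (nd 1190 (nd 1189 (lf (nat_lit 0x7000c)) (lf (nat_lit 0x7000c))) (nd 1191 (lf (nat_lit 0x7000c)) (lf (nat_lit 0x7000c00000000))))) (nd 1196 (nd 1194 (nd 1193 (lf (nat_lit 0x5000c)) (lf (nat_lit 0x5000c))) (nd 1195 (lf (nat_lit 0x9000c)) (lf (nat_lit 0x5000c)))) (nd 1198 (nd 1197 (lf (nat_lit 0x9000c)) (lf (nat_lit 0x4000a))) (nd 1199 (lf (nat_lit 0x5000c00000000)) (lf (nat_lit 0x4000a00000000)))))) (nd 1208 (nd 1204 (nd 1202 (nd 1201 (lf (nat_lit 0x7000c00000000)) (lf (nat_lit 0x9000a00000000))) (nd 1203 (lf (nat_lit 0x3000e00000000)) (lf (nat_lit 0x4000e00000000)))) (nd 1206 (nd 1205 (lf (nat_lit 0x7000e)) (lf (nat_lit 0x9000e00000000))) (nd 1207 (lf (nat_lit 0x4000e00000000)) (lf (nat_lit 0x5000e00000000))))) (nd 1212 (nd 1210 (nd 1209 (lf (nat_lit 0x9000e)) (lf (nat_lit 0x9000e))) (nd 1211 (lf (nat_lit 0x4000e)) (lf (nat_lit 0x4000e00000000))))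 (nd 1214 (nd 1213 (lf (nat_lit 0x9000e00000000)) (lf (nat_lit 0x5000e00000000))) (nd 1215 (lf (nat_lit 0x90010)) (lf (nat_lit 0x9000e)))))))) (nd 1248 (nd 1232 (nd 1224 (nd 1220 (nd 1218 (nd 1217 (lf (nat_lit 0x50010)) (lf (nat_lit 0x4000e00000000))) (nd 1219 (lf (nat_lit 0x9000e00000000)) (lf (nat_lit 0x3000e00000000)))) (nd 1222 (nd 1221 (lf (nat_lit 0x30010)) (lf (nat_lit 0x30010))) (nd 1223 (lf (nat_lit 0x30010)) (lf (nat_lit 0x30010))))) (nd 1228 (nd 1226 (nd 1225 (lf (nat_lit 0x60010)) (lf (nat_lit 0x70010))) (nd 1227 (lf (nat_lit 0x4000e00000000)) (lf (nat_lit 0x2000e00000000)))) (nd 1230 (nd 1229 (lf (nat_lit 0x9001000000000)) (lf (nat_lit 0x6001000000000))) (nd 1231 (lf (nat_lit 0x6000e)) (lf (nat_lit 0x50010)))))) (nd 1240 (nd 1236 (nd 1234 (nd 1233 (lf (nat_lit 0x7000e)) (lf (nat_lit 0x5000e))) (nd 1235 (lf (nat_lit 0x7000c)) (lf (nat_lit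 0x4000e)))) (nd 1238 (nd 1237 (lf (nat_lit 0x5000e00000000)) (lf (nat_lit 0x4000c00000000))) (nd 1239 (lf (nat_lit 0x5000c00000000)) (lf (nat_lit 0x9000a00000000))))) (nd 1244 (nd 1242 (nd 1241 (lf (nat_lit 0x9000c)) (lf (nat_lit 0x6000e))) (nd 1243 (lf (nat_lit 0x7000c)) (lf (nat_lit 0x70010)))) (nd 1246 (nd 1245 (lf (nat_lit 0x4000e)) (lf (nat_lit 0x9000c))) (nd 1247 (lf (nat_lit 0x4000e)) (lf (nat_lit 0x7000e))))))) (nd 1264 (nd 1256 (nd 1252 (nd 1250 (nd 1249 (lf (nat_lit 0x7000c)) (lf (nat_lit 0x9000a))) (nd 1251 (lf (nat_lit 0x7000e00000000)) (lf (nat_lit 0x7000c00000000)))) (nd 1254 (nd 1253 (lf (nat_lit 0x40010)) (lf (nat_lit 0x90010))) (nd 1255 (lf (nat_lit 0x90012)) (lf (nat_lit 0x90010))))) (nd 1260 (nd 1258 (nd 1257 (lf (nat_lit 0x50010)) (lf (nat_lit 0x40012))) (nd 1259 (lf (nat_lit 0x9000e)) (lf (nat_lit 0x9000e)))) (nd 1262 (nd 1261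 (lf (nat_lit 0x90010)) (lf (nat_lit 0x40012))) (nd 1263 (lf (nat_lit 0x9000c00000000)) (lf (nat_lit 0x9000e00000000)))))) (nd 1272 (nd 1268 (nd 1266 (nd 1265 (lf (nat_lit 0x9000e00000000)) (lf (nat_lit 0x9001000000000))) (nd 1267 (lf (nat_lit 0x6000e)) (lf (nat_lit 0x9000e)))) (nd 1270 (nd 1269 (lf (nat_lit 0x7000c)) (lf (nat_lit 0x9000a))) (nd 1271 (lf (nat_lit 0x9000c)) (lf (nat_lit 0x7000c))))) (nd 1276 (nd 1274 (nd 1273 (lf (nat_lit 0x7000c00000000)) (lf (nat_lit 0x9000a00000000))) (nd 1275 (lf (nat_lit 0x50010)) (lf (nat_lit 0x70010)))) (nd 1278 (nd 1277 (lf (nat_lit 0x70010)) (lf (nat_lit 0x40010))) (nd 1279 (lf (nat_lit 0x50010)) (lf (nat_lit 0x90010))))))))))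
noncomputable def um_lab_c5 : ℕ → ℕ := (nd 1408 (nd 1344 (nd 1312 (nd 1296 (nd 1288 (nd 1284 (nd 1282 (nd 1281 (lf (nat_lit 0x40010)) (lf (nat_lit 0x90010))) (nd 1283 (lf (nat_lit 0x40010)) (lf (nat_lit 0x90010)))) (nd 1286 (nd 1285 (lf (nat_lit 0x50010)) (lf (nat_lit 0x30012))) (nd 1287 (lf (nat_lit 0x10010)) (lf (nat_lit 0x60012))))) (nd 1292 (nd 1290 (nd 1289 (lf (nat_lit 0x90012)) (lf (nat_lit 0x90012))) (nd 1291 (lf (nat_lit 0x50012)) (lf (nat_lit 0x90010)))) (nd 1294 (nd 1293 (lf (nat_lit 0x50012)) (lf (nat_lit 0x70012))) (nd 1295 (lf (nat_lit 0x30010)) (lf (nat_lit 0x30010)))))) (nd 1304 (nd 1300 (nd 1298 (nd 1297 (lf (nat_lit 0x50010)) (lf (nat_lit 0x60010))) (nd 1299 (lf (nat_lit 0x70010)) (lf (nat_lit 0x20012)))) (nd 1302 (nd 1301 (lf (nat_lit 0x20012)) (lf (nat_lit 0x70012))) (nd 1303 (lf (nat_lit 0x20012)) (lf (nat_lit 0x70012)))))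 (nd 1308 (nd 1306 (nd 1305 (lf (nat_lit 0x20012)) (lf (nat_lit 0x70012))) (nd 1307 (lf (nat_lit 0x70012)) (lf (nat_lit 0x30010)))) (nd 1310 (nd 1309 (lf (nat_lit 0x60012)) (lf (nat_lit 0x20010))) (nd 1311 (lf (nat_lit 0x70012)) (lf (nat_lit 0x30010))))))) (nd 1328 (nd 1320 (nd 1316 (nd 1314 (nd 1313 (lf (nat_lit 0x50010)) (lf (nat_lit 0x10010))) (nd 1315 (lf (nat_lit 0x20010)) (lf (nat_lit 0x70010)))) (nd 1318 (nd 1317 (lf (nat_lit 0x70010)) (lf (nat_lit 0x60012))) (nd 1319 (lf (nat_lit 0x70010)) (lf (nat_lit 0x7000e))))) (nd 1324 (nd 1322 (nd 1321 (lf (nat_lit 0x7000c)) (lf (nat_lit 0x4000c))) (nd 1323 (lf (nat_lit 0x9000a)) (lf (nat_lit 0x9000a)))) (nd 1326 (nd 1325 (lf (nat_lit 0x9000a)) (lf (nat_lit 0x9000a))) (nd 1327 (lf (nat_lit 0x50011)) (lf (nat_lit 0x40011)))))) (nd 1336 (nd 1332 (nd 1330 (nd 1329 (lf (nat_lit 0x50011)) (lf (nat_lit 0x90011)))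 (nd 1331 (lf (nat_lit 0x70013)) (lf (nat_lit 0x70011)))) (nd 1334 (nd 1333 (lf (nat_lit 0x70011)) (lf (nat_lit 0x30013))) (nd 1335 (lf (nat_lit 0x10011)) (lf (nat_lit 0x60013))))) (nd 1340 (nd 1338 (nd 1337 (lf (nat_lit 0x70011)) (lf (nat_lit 0x30011))) (nd 1339 (lf (nat_lit 0x30011)) (lf (nat_lit 0x50011)))) (nd 1342 (nd 1341 (lf (nat_lit 0x60011)) (lf (nat_lit 0x60011))) (nd 1343 (lf (nat_lit 0x60013)) (lf (nat_lit 0x20011)))))))) (nd 1376 (nd 1360 (nd 1352 (nd 1348 (nd 1346 (nd 1345 (lf (nat_lit 0x50011)) (lf (nat_lit 0x9000b))) (nd 1347 (lf (nat_lit 0x9000b)) (lf (nat_lit 0x9000b00000000)))) (nd 1350 (nd 1349 (lf (nat_lit 0x4000b00000000)) (lf (nat_lit 0x6000d00000000))) (nd 1351 (lf (nat_lit 0x7000d)) (lf (nat_lit 0x9000d00000000))))) (nd 1356 (nd 1354 (nd 1353 (lf (nat_lit 0x9000b00000000)) (lf (nat_lit 0x9000d))) (nd 1355 (lf (nat_lit 0x9000d))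 (lf (nat_lit 0x4000d)))) (nd 1358 (nd 1357 (lf (nat_lit 0x5000d00000000)) (lf (nat_lit 0x9000d00000000))) (nd 1359 (lf (nat_lit 0x7000b00000000)) (lf (nat_lit 0x9000d)))))) (nd 1368 (nd 1364 (nd 1362 (nd 1361 (lf (nat_lit 0x9000b)) (lf (nat_lit 0x9000b00000000))) (nd 1363 (lf (nat_lit 0x9000d)) (lf (nat_lit 0x9000d)))) (nd 1366 (nd 1365 (lf (nat_lit 0x7000d)) (lf (nat_lit 0x7000d00000000))) (nd 1367 (lf (nat_lit 0x9000d00000000)) (lf (nat_lit 0x4000f))))) (nd 1372 (nd 1370 (nd 1369 (lf (nat_lit 0x5000d)) (lf (nat_lit 0x4000f))) (nd 1371 (lf (nat_lit 0x5000d)) (lf (nat_lit 0x6000f)))) (nd 1374 (nd 1373 (lf (nat_lit 0x3000b)) (lf (nat_lit 0x5000d00000000))) (nd 1375 (lf (nat_lit 0x2000b00000000)) (lf (nat_lit 0x6000d00000000))))))) (nd 1392 (nd 1384 (nd 1380 (nd 1378 (nd 1377 (lf (nat_lit 0x6000f00000000)) (lf (nat_lit 0x7000d))) (nd 1379 (lf (nat_lit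 0x7000d)) (lf (nat_lit 0x7000d)))) (nd 1382 (nd 1381 (lf (nat_lit 0x7000d)) (lf (nat_lit 0x7000d00000000))) (nd 1383 (lf (nat_lit 0x9000b)) (lf (nat_lit 0x5000d))))) (nd 1388 (nd 1386 (nd 1385 (lf (nat_lit 0x9000b)) (lf (nat_lit 0x4000b))) (nd 1387 (lf (nat_lit 0x4000d)) (lf (nat_lit 0x9000b)))) (nd 1390 (nd 1389 (lf (nat_lit 0x5000d)) (lf (nat_lit 0x4000b))) (nd 1391 (lf (nat_lit 0x4000d)) (lf (nat_lit 0x9000b)))))) (nd 1400 (nd 1396 (nd 1394 (nd 1393 (lf (nat_lit 0x3000b00000000)) (lf (nat_lit 0x7000d00000000))) (nd 1395 (lf (nat_lit 0x4000b00000000)) (lf (nat_lit 0x4000b00000000)))) (nd 1398 (nd 1397 (lf (nat_lit 0x4000f00000000)) (lf (nat_lit 0x5000f00000000))) (nd 1399 (lf (nat_lit 0x1000f00000000)) (lf (nat_lit 0x7000f))))) (nd 1404 (nd 1402 (nd 1401 (lf (nat_lit 0x7000f)) (lf (nat_lit 0x4000f00000000))) (nd 1403 (lf (nat_lit 0x9000f00000000))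 (lf (nat_lit 0x6000f00000000)))) (nd 1406 (nd 1405 (lf (nat_lit 0x9000f)) (lf (nat_lit 0x4000f))) (nd 1407 (lf (nat_lit 0x9000f)) (lf (nat_lit 0x4000f))))))))) (nd 1472 (nd 1440 (nd 1424 (nd 1416 (nd 1412 (nd 1410 (nd 1409 (lf (nat_lit 0x9000f)) (lf (nat_lit 0x5000f))) (nd 1411 (lf (nat_lit 0x4000f00000000)) (lf (nat_lit 0x5000f00000000)))) (nd 1414 (nd 1413 (lf (nat_lit 0x4000f00000000)) (lf (nat_lit 0x7000f00000000))) (nd 1415 (lf (nat_lit 0x9000f)) (lf (nat_lit 0x50011))))) (nd 1420 (nd 1418 (nd 1417 (lf (nat_lit 0x9000f)) (lf (nat_lit 0x4000f))) (nd 1419 (lf (nat_lit 0x9000f)) (lf (nat_lit 0x3000f)))) (nd 1422 (nd 1421 (lf (nat_lit 0x5000f00000000)) (lf (nat_lit 0x2000f00000000))) (nd 1423 (lf (nat_lit 0x4000f00000000)) (lf (nat_lit 0x7000f00000000)))))) (nd 1432 (nd 1428 (nd 1426 (nd 1425 (lf (nat_lit 0x30011)) (lf (nat_lit 0x30011))) (nd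 1427 (lf (nat_lit 0x60011)) (lf (nat_lit 0x70011)))) (nd 1430 (nd 1429 (lf (nat_lit 0x30011)) (lf (nat_lit 0x60011))) (nd 1431 (lf (nat_lit 0x4000f)) (lf (nat_lit 0x70011))))) (nd 1436 (nd 1434 (nd 1433 (lf (nat_lit 0x90011)) (lf (nat_lit 0x60011))) (nd 1435 (lf (nat_lit 0x7000f00000000)) (lf (nat_lit 0x6000f00000000)))) (nd 1438 (nd 1437 (lf (nat_lit 0x9000f00000000)) (lf (nat_lit 0x9001100000000))) (nd 1439 (lf (nat_lit 0x5000f)) (lf (nat_lit 0x7000f))))))) (nd 1456 (nd 1448 (nd 1444 (nd 1442 (nd 1441 (lf (nat_lit 0x5000f)) (lf (nat_lit 0x4000d))) (nd 1443 (lf (nat_lit 0x5000d)) (lf (nat_lit 0x3000d00000000)))) (nd 1446 (nd 1445 (lf (nat_lit 0x5000d00000000)) (lf (nat_lit 0x4000f))) (nd 1447 (lf (nat_lit 0x7000d)) (lf (nat_lit 0x3000f))))) (nd 1452 (nd 1450 (nd 1449 (lf (nat_lit 0x4000d)) (lf (nat_lit 0x7000f))) (nd 1451 (lf (nat_lit 0x7000d))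 (lf (nat_lit 0x7000d00000000)))) (nd 1454 (nd 1453 (lf (nat_lit 0x5000f)) (lf (nat_lit 0x40011))) (nd 1455 (lf (nat_lit 0x9000f)) (lf (nat_lit 0x9000f)))))) (nd 1464 (nd 1460 (nd 1458 (nd 1457 (lf (nat_lit 0x90011)) (lf (nat_lit 0x40013))) (nd 1459 (lf (nat_lit 0x5000f)) (lf (nat_lit 0x3000f)))) (nd 1462 (nd 1461 (lf (nat_lit 0x50011)) (lf (nat_lit 0x90011))) (nd 1463 (lf (nat_lit 0x70013)) (lf (nat_lit 0x9000d))))) (nd 1468 (nd 1466 (nd 1465 (lf (nat_lit 0x9000f)) (lf (nat_lit 0x9000f))) (nd 1467 (lf (nat_lit 0x90011)) (lf (nat_lit 0x9000d00000000)))) (nd 1470 (nd 1469 (lf (nat_lit 0x6000d00000000)) (lf (nat_lit 0x9000f00000000))) (nd 1471 (lf (nat_lit 0x7000f00000000)) (lf (nat_lit 0x9000d)))))))) (nd 1504 (nd 1488 (nd 1480 (nd 1476 (nd 1474 (nd 1473 (lf (nat_lit 0x7000d)) (lf (nat_lit 0x7000d))) (nd 1475 (lf (nat_lit 0x9000b00000000)) (lf (nat_lit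 0x9000b)))) (nd 1478 (nd 1477 (lf (nat_lit 0x70011)) (lf (nat_lit 0x70011))) (nd 1479 (lf (nat_lit 0x60011)) (lf (nat_lit 0x30011))))) (nd 1484 (nd 1482 (nd 1481 (lf (nat_lit 0x50011)) (lf (nat_lit 0x90011))) (nd 1483 (lf (nat_lit 0x40011)) (lf (nat_lit 0x90011)))) (nd 1486 (nd 1485 (lf (nat_lit 0x50011)) (lf (nat_lit 0x40011))) (nd 1487 (lf (nat_lit 0x90011)) (lf (nat_lit 0x30011)))))) (nd 1496 (nd 1492 (nd 1490 (nd 1489 (lf (nat_lit 0x50011)) (lf (nat_lit 0x40011))) (nd 1491 (lf (nat_lit 0x70011)) (lf (nat_lit 0x70011)))) (nd 1494 (nd 1493 (lf (nat_lit 0x70011)) (lf (nat_lit 0x10011))) (nd 1495 (lf (nat_lit 0x30011)) (lf (nat_lit 0x90011))))) (nd 1500 (nd 1498 (nd 1497 (lf (nat_lit 0x50013)) (lf (nat_lit 0x40011))) (nd 1499 (lf (nat_lit 0x90011)) (lf (nat_lit 0x70013)))) (nd 1502 (nd 1501 (lf (nat_lit 0x20011)) (lf (nat_lit 0x70013))) (nd 1503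 (lf (nat_lit 0x20013)) (lf (nat_lit 0x10013))))))) (nd 1520 (nd 1512 (nd 1508 (nd 1506 (nd 1505 (lf (nat_lit 0x30013)) (lf (nat_lit 0x70013))) (nd 1507 (lf (nat_lit 0x70011)) (lf (nat_lit 0x60013)))) (nd 1510 (nd 1509 (lf (nat_lit 0x20013)) (lf (nat_lit 0x20011))) (nd 1511 (lf (nat_lit 0x2000f)) (lf (nat_lit 0x60011))))) (nd 1516 (nd 1514 (nd 1513 (lf (nat_lit 0x70011)) (lf (nat_lit 0x7000f))) (nd 1515 (lf (nat_lit 0x9000d)) (lf (nat_lit 0x30012)))) (nd 1518 (nd 1517 (lf (nat_lit 0x50012)) (lf (nat_lit 0x30012))) (nd 1519 (lf (nat_lit 0x10012)) (lf (nat_lit 0x70012)))))) (nd 1528 (nd 1524 (nd 1522 (nd 1521 (lf (nat_lit 0x70012)) (lf (nat_lit 0x9000c))) (nd 1523 (lf (nat_lit 0x9000c)) (lf (nat_lit 0x4000c)))) (nd 1526 (nd 1525 (lf (nat_lit 0x4000c00000000)) (lf (nat_lit 0x9000c00000000))) (nd 1527 (lf (nat_lit 0x5000c00000000)) (lf (nat_lit 0x7000e)))))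 (nd 1532 (nd 1530 (nd 1529 (lf (nat_lit 0x9000c)) (lf (nat_lit 0x9000c00000000))) (nd 1531 (lf (nat_lit 0x9000e00000000)) (lf (nat_lit 0x9000e)))) (nd 1534 (nd 1533 (lf (nat_lit 0x4000e)) (lf (nat_lit 0x9000e))) (nd 1535 (lf (nat_lit 0x4000e)) (lf (nat_lit 0x9000e))))))))))
noncomputable def um_lab_c6 : ℕ → ℕ := (nd 1664 (nd 1600 (nd 1568 (nd 1552 (nd 1544 (nd 1540 (nd 1538 (nd 1537 (lf (nat_lit 0x7000c)) (lf (nat_lit 0x5000e00000000))) (nd 1539 (lf (nat_lit 0x1000c00000000)) (lf (nat_lit 0x6000e00000000)))) (nd 1542 (nd 1541 (lf (nat_lit 0x7000e00000000)) (lf (nat_lit 0x9000c))) (nd 1543 (lf (nat_lit 0x9000c)) (lf (nat_lit 0x9000c00000000))))) (nd 1548 (nd 1546 (nd 1545 (lf (nat_lit 0x9000e)) (lf (nat_lit 0x7000e))) (nd 1547 (lf (nat_lit 0x9000e)) (lf (nat_lit 0x7000e)))) (nd 1550 (nd 1549 (lf (nat_lit 0x9000e)) (lf (nat_lit 0x7000e00000000)))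 (nd 1551 (lf (nat_lit 0x9000e00000000)) (lf (nat_lit 0x7000e00000000)))))) (nd 1560 (nd 1556 (nd 1554 (nd 1553 (lf (nat_lit 0x40010)) (lf (nat_lit 0x5000e))) (nd 1555 (lf (nat_lit 0x60010)) (lf (nat_lit 0x3000c)))) (nd 1558 (nd 1557 (lf (nat_lit 0x5000e)) (lf (nat_lit 0x60010))) (nd 1559 (lf (nat_lit 0x5000e)) (lf (nat_lit 0x2000c))))) (nd 1564 (nd 1562 (nd 1561 (lf (nat_lit 0x6000e)) (lf (nat_lit 0x60010))) (nd 1563 (lf (nat_lit 0x2000c00000000)) (lf (nat_lit 0x6000e00000000)))) (nd 1566 (nd 1565 (lf (nat_lit 0x6000c00000000)) (lf (nat_lit 0x7000e00000000))) (nd 1567 (lf (nat_lit 0x7000e)) (lf (nat_lit 0x5000e))))))) (nd 1584 (nd 1576 (nd 1572 (nd 1570 (nd 1569 (lf (nat_lit 0x7000e)) (lf (nat_lit 0x4000c))) (nd 1571 (lf (nat_lit 0x5000e)) (lf (nat_lit 0x4000c)))) (nd 1574 (nd 1573 (lf (nat_lit 0x4000c)) (lf (nat_lit 0x3000e))) (nd 1575 (lf (nat_lit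 0x3000c)) (lf (nat_lit 0x3000e))))) (nd 1580 (nd 1578 (nd 1577 (lf (nat_lit 0x4000c)) (lf (nat_lit 0x3000c00000000))) (nd 1579 (lf (nat_lit 0x3000c00000000)) (lf (nat_lit 0x7000e00000000)))) (nd 1582 (nd 1581 (lf (nat_lit 0x5000e00000000)) (lf (nat_lit 0x4001000000000))) (nd 1583 (lf (nat_lit 0x2000e00000000)) (lf (nat_lit 0x70010)))))) (nd 1592 (nd 1588 (nd 1586 (nd 1585 (lf (nat_lit 0x70010)) (lf (nat_lit 0x90010))) (nd 1587 (lf (nat_lit 0x60010)) (lf (nat_lit 0x4000e00000000)))) (nd 1590 (nd 1589 (lf (nat_lit 0x6001000000000)) (lf (nat_lit 0x5001000000000))) (nd 1591 (lf (nat_lit 0x7001000000000)) (lf (nat_lit 0x90010))))) (nd 1596 (nd 1594 (nd 1593 (lf (nat_lit 0x40010)) (lf (nat_lit 0x90010))) (nd 1595 (lf (nat_lit 0x50010)) (lf (nat_lit 0x40010)))) (nd 1598 (nd 1597 (lf (nat_lit 0x90010)) (lf (nat_lit 0x30010))) (nd 1599 (lf (nat_lit 0x50010))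 (lf (nat_lit 0x40010)))))))) (nd 1632 (nd 1616 (nd 1608 (nd 1604 (nd 1602 (nd 1601 (lf (nat_lit 0x70010)) (lf (nat_lit 0x7001000000000))) (nd 1603 (lf (nat_lit 0x6001000000000)) (lf (nat_lit 0x9001000000000)))) (nd 1606 (nd 1605 (lf (nat_lit 0x7001000000000)) (lf (nat_lit 0x90010))) (nd 1607 (lf (nat_lit 0x40010)) (lf (nat_lit 0x90010))))) (nd 1612 (nd 1610 (nd 1609 (lf (nat_lit 0x40010)) (lf (nat_lit 0x90010))) (nd 1611 (lf (nat_lit 0x50010)) (lf (nat_lit 0x20010)))) (nd 1614 (nd 1613 (lf (nat_lit 0x40010)) (lf (nat_lit 0x70010))) (nd 1615 (lf (nat_lit 0x2000e00000000)) (lf (nat_lit 0x6001000000000)))))) (nd 1624 (nd 1620 (nd 1618 (nd 1617 (lf (nat_lit 0x1001000000000)) (lf (nat_lit 0x7001000000000))) (nd 1619 (lf (nat_lit 0x90012)) (lf (nat_lit 0x30012)))) (nd 1622 (nd 1621 (lf (nat_lit 0x60012)) (lf (nat_lit 0x40010))) (nd 1623 (lf (nat_lit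 0x70012)) (lf (nat_lit 0x90012))))) (nd 1628 (nd 1626 (nd 1625 (lf (nat_lit 0x60012)) (lf (nat_lit 0x40010))) (nd 1627 (lf (nat_lit 0x70012)) (lf (nat_lit 0x90012)))) (nd 1630 (nd 1629 (lf (nat_lit 0x90012)) (lf (nat_lit 0x60012))) (nd 1631 (lf (nat_lit 0x70010)) (lf (nat_lit 0x60010))))))) (nd 1648 (nd 1640 (nd 1636 (nd 1634 (nd 1633 (lf (nat_lit 0x90010)) (lf (nat_lit 0x90012))) (nd 1635 (lf (nat_lit 0x5000e00000000)) (lf (nat_lit 0x6001000000000)))) (nd 1638 (nd 1637 (lf (nat_lit 0x6000e00000000)) (lf (nat_lit 0x7001000000000))) (nd 1639 (lf (nat_lit 0x7001000000000)) (lf (nat_lit 0x50010))))) (nd 1644 (nd 1642 (nd 1641 (lf (nat_lit 0x70010)) (lf (nat_lit 0x3000e))) (nd 1643 (lf (nat_lit 0x5000e)) (lf (nat_lit 0x7000e)))) (nd 1646 (nd 1645 (lf (nat_lit 0x20010)) (lf (nat_lit 0x3000e))) (nd 1647 (lf (nat_lit 0x7000e)) (lf (nat_lit 0x9000c00000000))))))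 (nd 1656 (nd 1652 (nd 1650 (nd 1649 (lf (nat_lit 0x5000e)) (lf (nat_lit 0x3000e))) (nd 1651 (lf (nat_lit 0x50010)) (lf (nat_lit 0x70012)))) (nd 1654 (nd 1653 (lf (nat_lit 0x9000e)) (lf (nat_lit 0x90010))) (nd 1655 (lf (nat_lit 0x90010)) (lf (nat_lit 0x90012))))) (nd 1660 (nd 1658 (nd 1657 (lf (nat_lit 0x4000e)) (lf (nat_lit 0x50010))) (nd 1659 (lf (nat_lit 0x30010)) (lf (nat_lit 0x50012)))) (nd 1662 (nd 1661 (lf (nat_lit 0x70012)) (lf (nat_lit 0x90010))) (nd 1663 (lf (nat_lit 0x70012)) (lf (nat_lit 0x9000e))))))))) (nd 1728 (nd 1696 (nd 1680 (nd 1672 (nd 1668 (nd 1666 (nd 1665 (lf (nat_lit 0x6000e)) (lf (nat_lit 0x90010))) (nd 1667 (lf (nat_lit 0x70010)) (lf (nat_lit 0x7000e00000000)))) (nd 1670 (nd 1669 (lf (nat_lit 0x9000c00000000)) (lf (nat_lit 0x6000e00000000))) (nd 1671 (lf (nat_lit 0x7000e)) (lf (nat_lit 0x7000e))))) (nd 1676 (nd 1674 (nd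 1673 (lf (nat_lit 0x9000c)) (lf (nat_lit 0x9000c))) (nd 1675 (lf (nat_lit 0x70012)) (lf (nat_lit 0x60012)))) (nd 1678 (nd 1677 (lf (nat_lit 0x20012)) (lf (nat_lit 0x90012))) (nd 1679 (lf (nat_lit 0x40012)) (lf (nat_lit 0x90012)))))) (nd 1688 (nd 1684 (nd 1682 (nd 1681 (lf (nat_lit 0x30012)) (lf (nat_lit 0x50012))) (nd 1683 (lf (nat_lit 0x40012)) (lf (nat_lit 0x30012)))) (nd 1686 (nd 1685 (lf (nat_lit 0x50012)) (lf (nat_lit 0x40012))) (nd 1687 (lf (nat_lit 0x90012)) (lf (nat_lit 0x70012))))) (nd 1692 (nd 1690 (nd 1689 (lf (nat_lit 0x40012)) (lf (nat_lit 0x30012))) (nd 1691 (lf (nat_lit 0x10012)) (lf (nat_lit 0x40012)))) (nd 1694 (nd 1693 (lf (nat_lit 0x10012)) (lf (nat_lit 0x60014))) (nd 1695 (lf (nat_lit 0x20014)) (lf (nat_lit 0x70012))))))) (nd 1712 (nd 1704 (nd 1700 (nd 1698 (nd 1697 (lf (nat_lit 0x70010)) (lf (nat_lit 0x60012))) (nd 1699 (lf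 (nat_lit 0x60012)) (lf (nat_lit 0x40010)))) (nd 1702 (nd 1701 (lf (nat_lit 0x9000e)) (lf (nat_lit 0x9000d))) (nd 1703 (lf (nat_lit 0x4000d)) (lf (nat_lit 0x9000d))))) (nd 1708 (nd 1706 (nd 1705 (lf (nat_lit 0x4000d)) (lf (nat_lit 0x9000d))) (nd 1707 (lf (nat_lit 0x5000d)) (lf (nat_lit 0x3000d00000000)))) (nd 1710 (nd 1709 (lf (nat_lit 0x5000d00000000)) (lf (nat_lit 0x4000d00000000))) (nd 1711 (lf (nat_lit 0x7000d00000000)) (lf (nat_lit 0x7000f)))))) (nd 1720 (nd 1716 (nd 1714 (nd 1713 (lf (nat_lit 0x9000d)) (lf (nat_lit 0x9000f))) (nd 1715 (lf (nat_lit 0x9000d00000000)) (lf (nat_lit 0x9000d00000000)))) (nd 1718 (nd 1717 (lf (nat_lit 0x7000f00000000)) (lf (nat_lit 0x9000f))) (nd 1719 (lf (nat_lit 0x4000f)) (lf (nat_lit 0x9000f))))) (nd 1724 (nd 1722 (nd 1721 (lf (nat_lit 0x7000d)) (lf (nat_lit 0x4000f))) (nd 1723 (lf (nat_lit 0x9000f)) (lf (nat_lit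 0x3000f)))) (nd 1726 (nd 1725 (lf (nat_lit 0x7000d)) (lf (nat_lit 0x4000f))) (nd 1727 (lf (nat_lit 0x7000f)) (lf (nat_lit 0x1000d00000000)))))))) (nd 1760 (nd 1744 (nd 1736 (nd 1732 (nd 1730 (nd 1729 (lf (nat_lit 0x6000f00000000)) (lf (nat_lit 0x6000d00000000))) (nd 1731 (lf (nat_lit 0x7000f00000000)) (lf (nat_lit 0x9000d)))) (nd 1734 (nd 1733 (lf (nat_lit 0x9000d)) (lf (nat_lit 0x9000d))) (nd 1735 (lf (nat_lit 0x7000d00000000)) (lf (nat_lit 0x9000f))))) (nd 1740 (nd 1738 (nd 1737 (lf (nat_lit 0x7000f)) (lf (nat_lit 0x9000f))) (nd 1739 (lf (nat_lit 0x7000f)) (lf (nat_lit 0x9000f)))) (nd 1742 (nd 1741 (lf (nat_lit 0x7000f)) (lf (nat_lit 0x9000f))) (nd 1743 (lf (nat_lit 0x7000f)) (lf (nat_lit 0x6000f00000000)))))) (nd 1752 (nd 1748 (nd 1746 (nd 1745 (lf (nat_lit 0x7000f00000000)) (lf (nat_lit 0x90013))) (nd 1747 (lf (nat_lit 0x5000f)) (lf (nat_lit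 0x60011)))) (nd 1750 (nd 1749 (lf (nat_lit 0x5000f)) (lf (nat_lit 0x2000d))) (nd 1751 (lf (nat_lit 0x6000f)) (lf (nat_lit 0x60011))))) (nd 1756 (nd 1754 (nd 1753 (lf (nat_lit 0x5000f)) (lf (nat_lit 0x1000d))) (nd 1755 (lf (nat_lit 0x6000f)) (lf (nat_lit 0x20011)))) (nd 1758 (nd 1757 (lf (nat_lit 0x60011)) (lf (nat_lit 0x2000d))) (nd 1759 (lf (nat_lit 0x6000f)) (lf (nat_lit 0x6000d))))))) (nd 1776 (nd 1768 (nd 1764 (nd 1762 (nd 1761 (lf (nat_lit 0x7000f)) (lf (nat_lit 0x2000d00000000))) (nd 1763 (lf (nat_lit 0x6000d00000000)) (lf (nat_lit 0x6000f00000000)))) (nd 1766 (nd 1765 (lf (nat_lit 0x7000f00000000)) (lf (nat_lit 0x7000d00000000))) (nd 1767 (lf (nat_lit 0x7000f)) (lf (nat_lit 0x5000f))))) (nd 1772 (nd 1770 (nd 1769 (lf (nat_lit 0x3000d)) (lf (nat_lit 0x3000d))) (nd 1771 (lf (nat_lit 0x3000d)) (lf (nat_lit 0x2000f)))) (nd 1774 (nd 1773 (lf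 (nat_lit 0x3000d)) (lf (nat_lit 0x2000f))) (nd 1775 (lf (nat_lit 0x2000d00000000)) (lf (nat_lit 0x4000d00000000)))))) (nd 1784 (nd 1780 (nd 1778 (nd 1777 (lf (nat_lit 0x5000d00000000)) (lf (nat_lit 0x3000d00000000))) (nd 1779 (lf (nat_lit 0x5000f00000000)) (lf (nat_lit 0x7001100000000)))) (nd 1782 (nd 1781 (lf (nat_lit 0x70011)) (lf (nat_lit 0x90011))) (nd 1783 (lf (nat_lit 0x4000f)) (lf (nat_lit 0x60011))))) (nd 1788 (nd 1786 (nd 1785 (lf (nat_lit 0x50011)) (lf (nat_lit 0x70011))) (nd 1787 (lf (nat_lit 0x1000f00000000)) (lf (nat_lit 0x4000f00000000)))) (nd 1790 (nd 1789 (lf (nat_lit 0x2000f00000000)) (lf (nat_lit 0x7001100000000))) (nd 1791 (lf (nat_lit 0x90013)) (lf (nat_lit 0x40011))))))))))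
noncomputable def um_lab_c7 : ℕ → ℕ := (nd 1920 (nd 1856 (nd 1824 (nd 1808 (nd 1800 (nd 1796 (nd 1794 (nd 1793 (lf (nat_lit 0x90011)) (lf (nat_lit 0x30011))) (nd 1795 (lf (nat_lit 0x50011)) (lf (nat_lit 0x40011)))) (nd 1798 (nd 1797 (lf (nat_lit 0x70011)) (lf (nat_lit 0x30011))) (nd 1799 (lf (nat_lit 0x50011)) (lf (nat_lit 0x40011))))) (nd 1804 (nd 1802 (nd 1801 (lf (nat_lit 0x90011)) (lf (nat_lit 0x70011))) (nd 1803 (lf (nat_lit 0x40011)) (lf (nat_lit 0x30011)))) (nd 1806 (nd 1805 (lf (nat_lit 0x50011)) (lf (nat_lit 0x70011))) (nd 1807 (lf (nat_lit 0x5000f00000000)) (lf (nat_lit 0x4000f00000000)))))) (nd 1816 (nd 1812 (nd 1810 (nd 1809 (lf (nat_lit 0x5000f00000000)) (lf (nat_lit 0x9001100000000))) (nd 1811 (lf (nat_lit 0x6001100000000)) (lf (nat_lit 0x90013)))) (nd 1814 (nd 1813 (lf (nat_lit 0x40011)) (lf (nat_lit 0x90011))) (nd 1815 (lf (nat_lit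 0x50011)) (lf (nat_lit 0x40011))))) (nd 1820 (nd 1818 (nd 1817 (lf (nat_lit 0x70011)) (lf (nat_lit 0x50011))) (nd 1819 (lf (nat_lit 0x10011)) (lf (nat_lit 0x40011)))) (nd 1822 (nd 1821 (lf (nat_lit 0x90011)) (lf (nat_lit 0x70011))) (nd 1823 (lf (nat_lit 0x2000f)) (lf (nat_lit 0x60011))))))) (nd 1840 (nd 1832 (nd 1828 (nd 1826 (nd 1825 (lf (nat_lit 0x60011)) (lf (nat_lit 0x70011))) (nd 1827 (lf (nat_lit 0x6000f00000000)) (lf (nat_lit 0x6000f00000000)))) (nd 1830 (nd 1829 (lf (nat_lit 0x7001100000000)) (lf (nat_lit 0x7001100000000))) (nd 1831 (lf (nat_lit 0x40013)) (lf (nat_lit 0x40011))))) (nd 1836 (nd 1834 (nd 1833 (lf (nat_lit 0x70013)) (lf (nat_lit 0x90013))) (nd 1835 (lf (nat_lit 0x60013)) (lf (nat_lit 0x70011)))) (nd 1838 (nd 1837 (lf (nat_lit 0x60011)) (lf (nat_lit 0x90011))) (nd 1839 (lf (nat_lit 0x90013)) (lf (nat_lit 0x10011)))))) (nd 1848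 (nd 1844 (nd 1842 (nd 1841 (lf (nat_lit 0x70011)) (lf (nat_lit 0x60011))) (nd 1843 (lf (nat_lit 0x90011)) (lf (nat_lit 0x50013)))) (nd 1846 (nd 1845 (lf (nat_lit 0x90013)) (lf (nat_lit 0x90011))) (nd 1847 (lf (nat_lit 0x70013)) (lf (nat_lit 0x5000f))))) (nd 1852 (nd 1850 (nd 1849 (lf (nat_lit 0x60011)) (lf (nat_lit 0x6000f))) (nd 1851 (lf (nat_lit 0x70011)) (lf (nat_lit 0x70011)))) (nd 1854 (nd 1853 (lf (nat_lit 0x6001100000000)) (lf (nat_lit 0x9000d00000000))) (nd 1855 (lf (nat_lit 0x6000f00000000)) (lf (nat_lit 0x7000f)))))))) (nd 1888 (nd 1872 (nd 1864 (nd 1860 (nd 1858 (nd 1857 (lf (nat_lit 0x60011)) (lf (nat_lit 0x2000f))) (nd 1859 (lf (nat_lit 0x7000f)) (lf (nat_lit 0x9000d)))) (nd 1862 (nd 1861 (lf (nat_lit 0x4000d)) (lf (nat_lit 0x5000f))) (nd 1863 (lf (nat_lit 0x3000f)) (lf (nat_lit 0x70011))))) (nd 1868 (nd 1866 (nd 1865 (lf (nat_lit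 0x9000f)) (lf (nat_lit 0x6000f))) (nd 1867 (lf (nat_lit 0x90011)) (lf (nat_lit 0x70011)))) (nd 1870 (nd 1869 (lf (nat_lit 0x4000f)) (lf (nat_lit 0x50011))) (nd 1871 (lf (nat_lit 0x70011)) (lf (nat_lit 0x20011)))))) (nd 1880 (nd 1876 (nd 1874 (nd 1873 (lf (nat_lit 0x70011)) (lf (nat_lit 0x40011))) (nd 1875 (lf (nat_lit 0x70013)) (lf (nat_lit 0x9000f)))) (nd 1878 (nd 1877 (lf (nat_lit 0x70011)) (lf (nat_lit 0x7000f))) (nd 1879 (lf (nat_lit 0x6000f)) (lf (nat_lit 0x6000f))))) (nd 1884 (nd 1882 (nd 1881 (lf (nat_lit 0x9000d)) (lf (nat_lit 0x7000d00000000))) (nd 1883 (lf (nat_lit 0x7000f)) (lf (nat_lit 0x9000d)))) (nd 1886 (nd 1885 (lf (nat_lit 0x9000d)) (lf (nat_lit 0x60013))) (nd 1887 (lf (nat_lit 0x20013)) (lf (nat_lit 0x40013))))))) (nd 1904 (nd 1896 (nd 1892 (nd 1890 (nd 1889 (lf (nat_lit 0x30013)) (lf (nat_lit 0x50013))) (nd 1891 (lf (nat_lit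 0x40013)) (lf (nat_lit 0x20013)))) (nd 1894 (nd 1893 (lf (nat_lit 0x40013)) (lf (nat_lit 0x90011))) (nd 1895 (lf (nat_lit 0x60013)) (lf (nat_lit 0x30013))))) (nd 1900 (nd 1898 (nd 1897 (lf (nat_lit 0x60013)) (lf (nat_lit 0x40011))) (nd 1899 (lf (nat_lit 0x9000f)) (lf (nat_lit 0x70013)))) (nd 1902 (nd 1901 (lf (nat_lit 0x50011)) (lf (nat_lit 0x9000f))) (nd 1903 (lf (nat_lit 0x9000e)) (lf (nat_lit 0x4000e)))))) (nd 1912 (nd 1908 (nd 1906 (nd 1905 (lf (nat_lit 0x9000e)) (lf (nat_lit 0x5000e))) (nd 1907 (lf (nat_lit 0x4000e)) (lf (nat_lit 0x9000e)))) (nd 1910 (nd 1909 (lf (nat_lit 0x3000e)) (lf (nat_lit 0x5000e))) (nd 1911 (lf (nat_lit 0x4000e)) (lf (nat_lit 0x7000e))))) (nd 1916 (nd 1914 (nd 1913 (lf (nat_lit 0x5000e00000000)) (lf (nat_lit 0x3000e00000000))) (nd 1915 (lf (nat_lit 0x2000e00000000)) (lf (nat_lit 0x7000e00000000)))) (nd 1918 (nd 1917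 (lf (nat_lit 0x9000e)) (lf (nat_lit 0x90010))) (nd 1919 (lf (nat_lit 0x9000e)) (lf (nat_lit 0x9000e))))))))) (nd 1984 (nd 1952 (nd 1936 (nd 1928 (nd 1924 (nd 1922 (nd 1921 (lf (nat_lit 0x70010)) (lf (nat_lit 0x9000e00000000))) (nd 1923 (lf (nat_lit 0x7000e00000000)) (lf (nat_lit 0x90012)))) (nd 1926 (nd 1925 (lf (nat_lit 0x40010)) (lf (nat_lit 0x90010))) (nd 1927 (lf (nat_lit 0x30010)) (lf (nat_lit 0x7000e))))) (nd 1932 (nd 1930 (nd 1929 (lf (nat_lit 0x40010)) (lf (nat_lit 0x70010))) (nd 1931 (lf (nat_lit 0x30010)) (lf (nat_lit 0x7000e)))) (nd 1934 (nd 1933 (lf (nat_lit 0x40010)) (lf (nat_lit 0x90010))) (nd 1935 (lf (nat_lit 0x70010)) (lf (nat_lit 0x7000e)))))) (nd 1944 (nd 1940 (nd 1938 (nd 1937 (lf (nat_lit 0x30010)) (lf (nat_lit 0x6000e))) (nd 1939 (lf (nat_lit 0x60010)) (lf (nat_lit 0x1000e00000000)))) (nd 1942 (nd 1941 (lf (nat_lit 0x6000e00000000))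 (lf (nat_lit 0x2001000000000))) (nd 1943 (lf (nat_lit 0x7001000000000)) (lf (nat_lit 0x7000e00000000))))) (nd 1948 (nd 1946 (nd 1945 (lf (nat_lit 0x9000c)) (lf (nat_lit 0x9000e))) (nd 1947 (lf (nat_lit 0x9000e)) (lf (nat_lit 0x7000e)))) (nd 1950 (nd 1949 (lf (nat_lit 0x90012)) (lf (nat_lit 0x70010))) (nd 1951 (lf (nat_lit 0x90010)) (lf (nat_lit 0x70010))))))) (nd 1968 (nd 1960 (nd 1956 (nd 1954 (nd 1953 (lf (nat_lit 0x90010)) (lf (nat_lit 0x70010))) (nd 1955 (lf (nat_lit 0x70010)) (lf (nat_lit 0x90010)))) (nd 1958 (nd 1957 (lf (nat_lit 0x90010)) (lf (nat_lit 0x70010))) (nd 1959 (lf (nat_lit 0x60010)) (lf (nat_lit 0x70010))))) (nd 1964 (nd 1962 (nd 1961 (lf (nat_lit 0x6001000000000)) (lf (nat_lit 0x70012))) (nd 1963 (lf (nat_lit 0x90012)) (lf (nat_lit 0x50010)))) (nd 1966 (nd 1965 (lf (nat_lit 0x1000e)) (lf (nat_lit 0x60010))) (nd 1967 (lf (nat_lit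 0x20012)) (lf (nat_lit 0x60012)))))) (nd 1976 (nd 1972 (nd 1970 (nd 1969 (lf (nat_lit 0x2000e)) (lf (nat_lit 0x60010))) (nd 1971 (lf (nat_lit 0x6000e)) (lf (nat_lit 0x70010)))) (nd 1974 (nd 1973 (lf (nat_lit 0x10010)) (lf (nat_lit 0x1000e))) (nd 1975 (lf (nat_lit 0x60010)) (lf (nat_lit 0x6000e))))) (nd 1980 (nd 1978 (nd 1977 (lf (nat_lit 0x20010)) (lf (nat_lit 0x70010))) (nd 1979 (lf (nat_lit 0x90012)) (lf (nat_lit 0x20012)))) (nd 1982 (nd 1981 (lf (nat_lit 0x2000e)) (lf (nat_lit 0x6000e))) (nd 1983 (lf (nat_lit 0x60010)) (lf (nat_lit 0x70010)))))))) (nd 2016 (nd 2000 (nd 1992 (nd 1988 (nd 1986 (nd 1985 (lf (nat_lit 0x7000e)) (lf (nat_lit 0x6000e00000000))) (nd 1987 (lf (nat_lit 0x6000e00000000)) (lf (nat_lit 0x7000e00000000)))) (nd 1990 (nd 1989 (lf (nat_lit 0x4000e00000000)) (lf (nat_lit 0x6001000000000))) (nd 1991 (lf (nat_lit 0x50010)) (lf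 (nat_lit 0x2000e))))) (nd 1996 (nd 1994 (nd 1993 (lf (nat_lit 0x2000e)) (lf (nat_lit 0x60010))) (nd 1995 (lf (nat_lit 0x10010)) (lf (nat_lit 0x1000e00000000)))) (nd 1998 (nd 1997 (lf (nat_lit 0x4000e)) (lf (nat_lit 0x4000c00000000))) (nd 1999 (lf (nat_lit 0x5000e00000000)) (lf (nat_lit 0x3000e00000000)))))) (nd 2008 (nd 2004 (nd 2002 (nd 2001 (lf (nat_lit 0x7001000000000)) (lf (nat_lit 0x40010))) (nd 2003 (lf (nat_lit 0x60012)) (lf (nat_lit 0x50012)))) (nd 2006 (nd 2005 (lf (nat_lit 0x70012)) (lf (nat_lit 0x50010))) (nd 2007 (lf (nat_lit 0x40010)) (lf (nat_lit 0x20010))))) (nd 2012 (nd 2010 (nd 2009 (lf (nat_lit 0x70012)) (lf (nat_lit 0x2001000000000))) (nd 2011 (lf (nat_lit 0x9000e00000000)) (lf (nat_lit 0x7001000000000)))) (nd 2014 (nd 2013 (lf (nat_lit 0x7001000000000)) (lf (nat_lit 0x40014))) (nd 2015 (lf (nat_lit 0x90012)) (lf (nat_lit 0x30012)))))))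 (nd 2032 (nd 2024 (nd 2020 (nd 2018 (nd 2017 (lf (nat_lit 0x50012)) (lf (nat_lit 0x40012))) (nd 2019 (lf (nat_lit 0x90012)) (lf (nat_lit 0x70012)))) (nd 2022 (nd 2021 (lf (nat_lit 0x40012)) (lf (nat_lit 0x30012))) (nd 2023 (lf (nat_lit 0x50012)) (lf (nat_lit 0x70012))))) (nd 2028 (nd 2026 (nd 2025 (lf (nat_lit 0x20012)) (lf (nat_lit 0x40012))) (nd 2027 (lf (nat_lit 0x30012)) (lf (nat_lit 0x50012)))) (nd 2030 (nd 2029 (lf (nat_lit 0x40012)) (lf (nat_lit 0x70012))) (nd 2031 (lf (nat_lit 0x40012)) (lf (nat_lit 0x70012)))))) (nd 2040 (nd 2036 (nd 2034 (nd 2033 (lf (nat_lit 0x90010)) (lf (nat_lit 0x40010))) (nd 2035 (lf (nat_lit 0x50010)) (lf (nat_lit 0x90012)))) (nd 2038 (nd 2037 (lf (nat_lit 0x60012)) (lf (nat_lit 0x9000e00000000))) (nd 2039 (lf (nat_lit 0x4000e00000000)) (lf (nat_lit 0x7001000000000))))) (nd 2044 (nd 2042 (nd 2041 (lf (nat_lit 0x9000e00000000))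 (lf (nat_lit 0x9001000000000))) (nd 2043 (lf (nat_lit 0x40014)) (lf (nat_lit 0x50012)))) (nd 2046 (nd 2045 (lf (nat_lit 0x40012)) (lf (nat_lit 0x70012))) (nd 2047 (lf (nat_lit 0x60012)) (lf (nat_lit 0x70012))))))))))
noncomputable def um_lab_c8 : ℕ → ℕ := (nd 2176 (nd 2112 (nd 2080 (nd 2064 (nd 2056 (nd 2052 (nd 2050 (nd 2049 (lf (nat_lit 0x70012)) (lf (nat_lit 0x10010))) (nd 2051 (lf (nat_lit 0x60012)) (lf (nat_lit 0x60012)))) (nd 2054 (nd 2053 (lf (nat_lit 0x40012)) (lf (nat_lit 0x70012))) (nd 2055 (lf (nat_lit 0x70012)) (lf (nat_lit 0x60010))))) (nd 2060 (nd 2058 (nd 2057 (lf (nat_lit 0x60010)) (lf (nat_lit 0x70012))) (nd 2059 (lf (nat_lit 0x70012)) (lf (nat_lit 0x7001000000000)))) (nd 2062 (nd 2061 (lf (nat_lit 0x7001000000000)) (lf (nat_lit 0x50012))) (nd 2063 (lf (nat_lit 0x30012)) (lf (nat_lit 0x60012)))))) (nd 2072 (nd 2068 (nd 2066 (nd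 2065 (lf (nat_lit 0x90012)) (lf (nat_lit 0x90014))) (nd 2067 (lf (nat_lit 0x60012)) (lf (nat_lit 0x60010)))) (nd 2070 (nd 2069 (lf (nat_lit 0x70012)) (lf (nat_lit 0x70012))) (nd 2071 (lf (nat_lit 0x60012)) (lf (nat_lit 0x50010))))) (nd 2076 (nd 2074 (nd 2073 (lf (nat_lit 0x60012)) (lf (nat_lit 0x20012))) (nd 2075 (lf (nat_lit 0x70012)) (lf (nat_lit 0x10012)))) (nd 2078 (nd 2077 (lf (nat_lit 0x70012)) (lf (nat_lit 0x40012))) (nd 2079 (lf (nat_lit 0x70014)) (lf (nat_lit 0x90010))))))) (nd 2096 (nd 2088 (nd 2084 (nd 2082 (nd 2081 (lf (nat_lit 0x70012)) (lf (nat_lit 0x60012))) (nd 2083 (lf (nat_lit 0x60010)) (lf (nat_lit 0x60010)))) (nd 2086 (nd 2085 (lf (nat_lit 0x9000e)) (lf (nat_lit 0x7000e00000000))) (nd 2087 (lf (nat_lit 0x70010)) (lf (nat_lit 0x60010))))) (nd 2092 (nd 2090 (nd 2089 (lf (nat_lit 0x70012)) (lf (nat_lit 0x10010))) (nd 2091 (lf (nat_lit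 0x9000e)) (lf (nat_lit 0x9000e)))) (nd 2094 (nd 2093 (lf (nat_lit 0x4000e)) (lf (nat_lit 0x50010))) (nd 2095 (lf (nat_lit 0x70010)) (lf (nat_lit 0x70010)))))) (nd 2104 (nd 2100 (nd 2098 (nd 2097 (lf (nat_lit 0x70010)) (lf (nat_lit 0x60010))) (nd 2099 (lf (nat_lit 0x60010)) (lf (nat_lit 0x40010)))) (nd 2102 (nd 2101 (lf (nat_lit 0x70010)) (lf (nat_lit 0x20010))) (nd 2103 (lf (nat_lit 0x50012)) (lf (nat_lit 0x70012))))) (nd 2108 (nd 2106 (nd 2105 (lf (nat_lit 0x20012)) (lf (nat_lit 0x70012))) (nd 2107 (lf (nat_lit 0x90010)) (lf (nat_lit 0x70012)))) (nd 2110 (nd 2109 (lf (nat_lit 0x9000e)) (lf (nat_lit 0x70010))) (nd 2111 (lf (nat_lit 0x9000e)) (lf (nat_lit 0x60010)))))))) (nd 2144 (nd 2128 (nd 2120 (nd 2116 (nd 2114 (nd 2113 (lf (nat_lit 0x7000e)) (lf (nat_lit 0x90010))) (nd 2115 (lf (nat_lit 0x9000e)) (lf (nat_lit 0x20014)))) (nd 2118 (nd 2117 (lf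 (nat_lit 0x50014)) (lf (nat_lit 0x40014))) (nd 2119 (lf (nat_lit 0x90012)) (lf (nat_lit 0x20014))))) (nd 2124 (nd 2122 (nd 2121 (lf (nat_lit 0x70014)) (lf (nat_lit 0x40012))) (nd 2123 (lf (nat_lit 0x50012)) (lf (nat_lit 0x90010)))) (nd 2126 (nd 2125 (lf (nat_lit 0x50010)) (lf (nat_lit 0x4000f00000000))) (nd 2127 (lf (nat_lit 0x4000f)) (lf (nat_lit 0x9000f)))))) (nd 2136 (nd 2132 (nd 2130 (nd 2129 (lf (nat_lit 0x3000f)) (lf (nat_lit 0x5000f))) (nd 2131 (lf (nat_lit 0x4000f)) (lf (nat_lit 0x7000f)))) (nd 2134 (nd 2133 (lf (nat_lit 0x4000f)) (lf (nat_lit 0x9000f))) (nd 2135 (lf (nat_lit 0x7000f)) (lf (nat_lit 0x3000f))))) (nd 2140 (nd 2138 (nd 2137 (lf (nat_lit 0x5000f)) (lf (nat_lit 0x7000f))) (nd 2139 (lf (nat_lit 0x3000f00000000)) (lf (nat_lit 0x2000f00000000)))) (nd 2142 (nd 2141 (lf (nat_lit 0x7000f00000000)) (lf (nat_lit 0x7000f00000000))) (nd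 2143 (lf (nat_lit 0x9000f)) (lf (nat_lit 0x9000f))))))) (nd 2160 (nd 2152 (nd 2148 (nd 2146 (nd 2145 (lf (nat_lit 0x90011)) (lf (nat_lit 0x70011))) (nd 2147 (lf (nat_lit 0x9000f)) (lf (nat_lit 0x7000f)))) (nd 2150 (nd 2149 (lf (nat_lit 0x9000f00000000)) (lf (nat_lit 0x7000f00000000))) (nd 2151 (lf (nat_lit 0x70013)) (lf (nat_lit 0x90011))))) (nd 2156 (nd 2154 (nd 2153 (lf (nat_lit 0x30011)) (lf (nat_lit 0x7000f))) (nd 2155 (lf (nat_lit 0x40011)) (lf (nat_lit 0x90011)))) (nd 2158 (nd 2157 (lf (nat_lit 0x70011)) (lf (nat_lit 0x7000f))) (nd 2159 (lf (nat_lit 0x30011)) (lf (nat_lit 0x6000f)))))) (nd 2168 (nd 2164 (nd 2162 (nd 2161 (lf (nat_lit 0x60011)) (lf (nat_lit 0x20011))) (nd 2163 (lf (nat_lit 0x7000f)) (lf (nat_lit 0x30011)))) (nd 2166 (nd 2165 (lf (nat_lit 0x6000f)) (lf (nat_lit 0x40011))) (nd 2167 (lf (nat_lit 0x60011)) (lf (nat_lit 0x40011)))))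 (nd 2172 (nd 2170 (nd 2169 (lf (nat_lit 0x70011)) (lf (nat_lit 0x7000f))) (nd 2171 (lf (nat_lit 0x6000f)) (lf (nat_lit 0x20011)))) (nd 2174 (nd 2173 (lf (nat_lit 0x60011)) (lf (nat_lit 0x6000f))) (nd 2175 (lf (nat_lit 0x6000f00000000)) (lf (nat_lit 0x2000f00000000))))))))) (nd 2240 (nd 2208 (nd 2192 (nd 2184 (nd 2180 (nd 2178 (nd 2177 (lf (nat_lit 0x7000f00000000)) (lf (nat_lit 0x4000f00000000))) (nd 2179 (lf (nat_lit 0x4001100000000)) (lf (nat_lit 0x9000b00000000)))) (nd 2182 (nd 2181 (lf (nat_lit 0x9000d)) (lf (nat_lit 0x7000f))) (nd 2183 (lf (nat_lit 0x9000f)) (lf (nat_lit 0x7000f))))) (nd 2188 (nd 2186 (nd 2185 (lf (nat_lit 0x90011)) (lf (nat_lit 0x40011))) (nd 2187 (lf (nat_lit 0x70011)) (lf (nat_lit 0x90011)))) (nd 2190 (nd 2189 (lf (nat_lit 0x9000f)) (lf (nat_lit 0x70011))) (nd 2191 (lf (nat_lit 0x60011)) (lf (nat_lit 0x70011)))))) (nd 2200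 (nd 2196 (nd 2194 (nd 2193 (lf (nat_lit 0x50011)) (lf (nat_lit 0x60011))) (nd 2195 (lf (nat_lit 0x40011)) (lf (nat_lit 0x70011)))) (nd 2198 (nd 2197 (lf (nat_lit 0x90011)) (lf (nat_lit 0x70011))) (nd 2199 (lf (nat_lit 0x60011)) (lf (nat_lit 0x50011))))) (nd 2204 (nd 2202 (nd 2201 (lf (nat_lit 0x70011)) (lf (nat_lit 0x40013))) (nd 2203 (lf (nat_lit 0x70013)) (lf (nat_lit 0x1000f)))) (nd 2206 (nd 2205 (lf (nat_lit 0x1000f)) (lf (nat_lit 0x60011))) (nd 2207 (lf (nat_lit 0x6000f)) (lf (nat_lit 0x20011))))))) (nd 2224 (nd 2216 (nd 2212 (nd 2210 (nd 2209 (lf (nat_lit 0x70011)) (lf (nat_lit 0x20013))) (nd 2211 (lf (nat_lit 0x6000f)) (lf (nat_lit 0x6000f)))) (nd 2214 (nd 2213 (lf (nat_lit 0x70011)) (lf (nat_lit 0x7000f))) (nd 2215 (lf (nat_lit 0x1000f)) (lf (nat_lit 0x60011))))) (nd 2220 (nd 2218 (nd 2217 (lf (nat_lit 0x1000f)) (lf (nat_lit 0x6000f)))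 (nd 2219 (lf (nat_lit 0x20011)) (lf (nat_lit 0x70011)))) (nd 2222 (nd 2221 (lf (nat_lit 0x2000f)) (lf (nat_lit 0x7000f))) (nd 2223 (lf (nat_lit 0x30011)) (lf (nat_lit 0x70011)))))) (nd 2232 (nd 2228 (nd 2226 (nd 2225 (lf (nat_lit 0x90011)) (lf (nat_lit 0x70013))) (nd 2227 (lf (nat_lit 0x20013)) (lf (nat_lit 0x6000f)))) (nd 2230 (nd 2229 (lf (nat_lit 0x6000f)) (lf (nat_lit 0x7000f))) (nd 2231 (lf (nat_lit 0x60011)) (lf (nat_lit 0x70011))))) (nd 2236 (nd 2234 (nd 2233 (lf (nat_lit 0x7000f00000000)) (lf (nat_lit 0x6000f00000000))) (nd 2235 (lf (nat_lit 0x7000f00000000)) (lf (nat_lit 0x4000f)))) (nd 2238 (nd 2237 (lf (nat_lit 0x7000f00000000)) (lf (nat_lit 0x60011))) (nd 2239 (lf (nat_lit 0x70011)) (lf (nat_lit 0x4000f)))))))) (nd 2272 (nd 2256 (nd 2248 (nd 2244 (nd 2242 (nd 2241 (lf (nat_lit 0x5000f)) (lf (nat_lit 0x4000f))) (nd 2243 (lf (nat_lit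 0x4000d00000000)) (lf (nat_lit 0x9000d00000000)))) (nd 2246 (nd 2245 (lf (nat_lit 0x7000f00000000)) (lf (nat_lit 0x7000f00000000))) (nd 2247 (lf (nat_lit 0x40011)) (lf (nat_lit 0x50011))))) (nd 2252 (nd 2250 (nd 2249 (lf (nat_lit 0x40011)) (lf (nat_lit 0x10011))) (nd 2251 (lf (nat_lit 0x70013)) (lf (nat_lit 0x20011)))) (nd 2254 (nd 2253 (lf (nat_lit 0x50011)) (lf (nat_lit 0x70011))) (nd 2255 (lf (nat_lit 0x70011)) (lf (nat_lit 0x3000f00000000)))))) (nd 2264 (nd 2260 (nd 2258 (nd 2257 (lf (nat_lit 0x7001100000000)) (lf (nat_lit 0x9000d00000000))) (nd 2259 (lf (nat_lit 0x7000f00000000)) (lf (nat_lit 0x50013)))) (nd 2262 (nd 2261 (lf (nat_lit 0x40013)) (lf (nat_lit 0x70013))) (nd 2263 (lf (nat_lit 0x20013)) (lf (nat_lit 0x40013))))) (nd 2268 (nd 2266 (nd 2265 (lf (nat_lit 0x30013)) (lf (nat_lit 0x50013))) (nd 2267 (lf (nat_lit 0x40013)) (lf (nat_lit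 0x70013)))) (nd 2270 (nd 2269 (lf (nat_lit 0x70013)) (lf (nat_lit 0x90011))) (nd 2271 (lf (nat_lit 0x40011)) (lf (nat_lit 0x50011))))))) (nd 2288 (nd 2280 (nd 2276 (nd 2274 (nd 2273 (lf (nat_lit 0x90013)) (lf (nat_lit 0x60013))) (nd 2275 (lf (nat_lit 0x40013)) (lf (nat_lit 0x60013)))) (nd 2278 (nd 2277 (lf (nat_lit 0x90011)) (lf (nat_lit 0x40011))) (nd 2279 (lf (nat_lit 0x20013)) (lf (nat_lit 0x90013))))) (nd 2284 (nd 2282 (nd 2281 (lf (nat_lit 0x50013)) (lf (nat_lit 0x60013))) (nd 2283 (lf (nat_lit 0x40013)) (lf (nat_lit 0x70013)))) (nd 2286 (nd 2285 (lf (nat_lit 0x90011)) (lf (nat_lit 0x70013))) (nd 2287 (lf (nat_lit 0x9000f)) (lf (nat_lit 0x4000f)))))) (nd 2296 (nd 2292 (nd 2290 (nd 2289 (lf (nat_lit 0x70011)) (lf (nat_lit 0x50011))) (nd 2291 (lf (nat_lit 0x90011)) (lf (nat_lit 0x7000f00000000)))) (nd 2294 (nd 2293 (lf (nat_lit 0x7000f00000000))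 (lf (nat_lit 0x9000f))) (nd 2295 (lf (nat_lit 0x7000f00000000)) (lf (nat_lit 0x9001100000000))))) (nd 2300 (nd 2298 (nd 2297 (lf (nat_lit 0x60013)) (lf (nat_lit 0x70013))) (nd 2299 (lf (nat_lit 0x70013)) (lf (nat_lit 0x60013)))) (nd 2302 (nd 2301 (lf (nat_lit 0x60011)) (lf (nat_lit 0x20013))) (nd 2303 (lf (nat_lit 0x70013)) (lf (nat_lit 0x20013))))))))))
noncomputable def um_lab_c9 : ℕ → ℕ := (nd 2432 (nd 2368 (nd 2336 (nd 2320 (nd 2312 (nd 2308 (nd 2306 (nd 2305 (lf (nat_lit 0x70013)) (lf (nat_lit 0x30013))) (nd 2307 (lf (nat_lit 0x70013)) (lf (nat_lit 0x70011)))) (nd 2310 (nd 2309 (lf (nat_lit 0x60011)) (lf (nat_lit 0x70011))) (nd 2311 (lf (nat_lit 0x20013)) (lf (nat_lit 0x70013))))) (nd 2316 (nd 2314 (nd 2313 (lf (nat_lit 0x70013)) (lf (nat_lit 0x60013))) (nd 2315 (lf (nat_lit 0x60011)) (lf (nat_lit 0x60011)))) (nd 2318 (nd 2317 (lf (nat_lit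 0x20013)) (lf (nat_lit 0x70013))) (nd 2319 (lf (nat_lit 0x20013)) (lf (nat_lit 0x60013)))))) (nd 2328 (nd 2324 (nd 2322 (nd 2321 (lf (nat_lit 0x20011)) (lf (nat_lit 0x40013))) (nd 2323 (lf (nat_lit 0x70013)) (lf (nat_lit 0x10013)))) (nd 2326 (nd 2325 (lf (nat_lit 0x70013)) (lf (nat_lit 0x90011))) (nd 2327 (lf (nat_lit 0x70013)) (lf (nat_lit 0x9000f))))) (nd 2332 (nd 2330 (nd 2329 (lf (nat_lit 0x70011)) (lf (nat_lit 0x9000f))) (nd 2331 (lf (nat_lit 0x60011)) (lf (nat_lit 0x9000f)))) (nd 2334 (nd 2333 (lf (nat_lit 0x7000f)) (lf (nat_lit 0x90011))) (nd 2335 (lf (nat_lit 0x60011)) (lf (nat_lit 0x70011))))))) (nd 2352 (nd 2344 (nd 2340 (nd 2338 (nd 2337 (lf (nat_lit 0x9000f)) (lf (nat_lit 0x9000f))) (nd 2339 (lf (nat_lit 0x4000f)) (lf (nat_lit 0x7000f)))) (nd 2342 (nd 2341 (lf (nat_lit 0x20011)) (lf (nat_lit 0x70011))) (nd 2343 (lf (nat_lit 0x9000f))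 (lf (nat_lit 0x60011))))) (nd 2348 (nd 2346 (nd 2345 (lf (nat_lit 0x30011)) (lf (nat_lit 0x70011))) (nd 2347 (lf (nat_lit 0x9000f)) (lf (nat_lit 0x30011)))) (nd 2350 (nd 2349 (lf (nat_lit 0x20011)) (lf (nat_lit 0x90011))) (nd 2351 (lf (nat_lit 0x70013)) (lf (nat_lit 0x90011)))))) (nd 2360 (nd 2356 (nd 2354 (nd 2353 (lf (nat_lit 0x50011)) (lf (nat_lit 0x70013))) (nd 2355 (lf (nat_lit 0x70011)) (lf (nat_lit 0x7000f)))) (nd 2358 (nd 2357 (lf (nat_lit 0x7000f)) (lf (nat_lit 0x90011))) (nd 2359 (lf (nat_lit 0x20015)) (lf (nat_lit 0x90013))))) (nd 2364 (nd 2362 (nd 2361 (lf (nat_lit 0x40013)) (lf (nat_lit 0x70015))) (nd 2363 (lf (nat_lit 0x90011)) (lf (nat_lit 0x50011)))) (nd 2366 (nd 2365 (lf (nat_lit 0x9001000000000)) (lf (nat_lit 0x40010))) (nd 2367 (lf (nat_lit 0x90010)) (lf (nat_lit 0x70010)))))))) (nd 2400 (nd 2384 (nd 2376 (nd 2372 (nd 2370 (nd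 2369 (lf (nat_lit 0x30010)) (lf (nat_lit 0x50010))) (nd 2371 (lf (nat_lit 0x70010)) (lf (nat_lit 0x40010)))) (nd 2374 (nd 2373 (lf (nat_lit 0x70010)) (lf (nat_lit 0x40010))) (nd 2375 (lf (nat_lit 0x70010)) (lf (nat_lit 0x20010))))) (nd 2380 (nd 2378 (nd 2377 (lf (nat_lit 0x70010)) (lf (nat_lit 0x70010))) (nd 2379 (lf (nat_lit 0x4001000000000)) (lf (nat_lit 0x7001000000000)))) (nd 2382 (nd 2381 (lf (nat_lit 0x5001000000000)) (lf (nat_lit 0x7001000000000))) (nd 2383 (lf (nat_lit 0x90010)) (lf (nat_lit 0x90010)))))) (nd 2392 (nd 2388 (nd 2386 (nd 2385 (lf (nat_lit 0x90010)) (lf (nat_lit 0x70010))) (nd 2387 (lf (nat_lit 0x70012)) (lf (nat_lit 0x90010)))) (nd 2390 (nd 2389 (lf (nat_lit 0x70010)) (lf (nat_lit 0x7001000000000))) (nd 2391 (lf (nat_lit 0x50012)) (lf (nat_lit 0x70012))))) (nd 2396 (nd 2394 (nd 2393 (lf (nat_lit 0x40012)) (lf (nat_lit 0x90010)))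 (nd 2395 (lf (nat_lit 0x70012)) (lf (nat_lit 0x20012)))) (nd 2398 (nd 2397 (lf (nat_lit 0x70010)) (lf (nat_lit 0x30012))) (nd 2399 (lf (nat_lit 0x60010)) (lf (nat_lit 0x40012))))))) (nd 2416 (nd 2408 (nd 2404 (nd 2402 (nd 2401 (lf (nat_lit 0x60012)) (lf (nat_lit 0x40010))) (nd 2403 (lf (nat_lit 0x70012)) (lf (nat_lit 0x70010)))) (nd 2406 (nd 2405 (lf (nat_lit 0x60010)) (lf (nat_lit 0x20012))) (nd 2407 (lf (nat_lit 0x60012)) (lf (nat_lit 0x60010))))) (nd 2412 (nd 2410 (nd 2409 (lf (nat_lit 0x70010)) (lf (nat_lit 0x60012))) (nd 2411 (lf (nat_lit 0x70010)) (lf (nat_lit 0x60010)))) (nd 2414 (nd 2413 (lf (nat_lit 0x20012)) (lf (nat_lit 0x60012))) (nd 2415 (lf (nat_lit 0x20010)) (lf (nat_lit 0x60010)))))) (nd 2424 (nd 2420 (nd 2418 (nd 2417 (lf (nat_lit 0x40012)) (lf (nat_lit 0x20012))) (nd 2419 (lf (nat_lit 0x90010)) (lf (nat_lit 0x70012)))) (nd 2422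 (nd 2421 (lf (nat_lit 0x60012)) (lf (nat_lit 0x90010))) (nd 2423 (lf (nat_lit 0x40010)) (lf (nat_lit 0x60010))))) (nd 2428 (nd 2426 (nd 2425 (lf (nat_lit 0x30012)) (lf (nat_lit 0x40012))) (nd 2427 (lf (nat_lit 0x9000e00000000)) (lf (nat_lit 0x7001000000000)))) (nd 2430 (nd 2429 (lf (nat_lit 0x3001000000000)) (lf (nat_lit 0x7001000000000))) (nd 2431 (lf (nat_lit 0x40010)) (lf (nat_lit 0x7001000000000))))))))) (nd 2496 (nd 2464 (nd 2448 (nd 2440 (nd 2436 (nd 2434 (nd 2433 (lf (nat_lit 0x9001200000000)) (lf (nat_lit 0x9000c00000000))) (nd 2435 (lf (nat_lit 0x9000e)) (lf (nat_lit 0x7000e)))) (nd 2438 (nd 2437 (lf (nat_lit 0x90010)) (lf (nat_lit 0x70010))) (nd 2439 (lf (nat_lit 0x90012)) (lf (nat_lit 0x90010))))) (nd 2444 (nd 2442 (nd 2441 (lf (nat_lit 0x70012)) (lf (nat_lit 0x60012))) (nd 2443 (lf (nat_lit 0x40010)) (lf (nat_lit 0x70012)))) (nd 2446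 (nd 2445 (lf (nat_lit 0x70010)) (lf (nat_lit 0x60012))) (nd 2447 (lf (nat_lit 0x60012)) (lf (nat_lit 0x20012)))))) (nd 2456 (nd 2452 (nd 2450 (nd 2449 (lf (nat_lit 0x60012)) (lf (nat_lit 0x30012))) (nd 2451 (lf (nat_lit 0x70012)) (lf (nat_lit 0x40012)))) (nd 2454 (nd 2453 (lf (nat_lit 0x70012)) (lf (nat_lit 0x60012))) (nd 2455 (lf (nat_lit 0x50010)) (lf (nat_lit 0x40010))))) (nd 2460 (nd 2458 (nd 2457 (lf (nat_lit 0x50012)) (lf (nat_lit 0x60012))) (nd 2459 (lf (nat_lit 0x60012)) (lf (nat_lit 0x60010)))) (nd 2462 (nd 2461 (lf (nat_lit 0x60010)) (lf (nat_lit 0x20012))) (nd 2463 (lf (nat_lit 0x70012)) (lf (nat_lit 0x20010))))))) (nd 2480 (nd 2472 (nd 2468 (nd 2466 (nd 2465 (lf (nat_lit 0x70010)) (lf (nat_lit 0x30012))) (nd 2467 (lf (nat_lit 0x70012)) (lf (nat_lit 0x20012)))) (nd 2470 (nd 2469 (lf (nat_lit 0x70010)) (lf (nat_lit 0x60010))) (nd 2471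 (lf (nat_lit 0x70010)) (lf (nat_lit 0x20012))))) (nd 2476 (nd 2474 (nd 2473 (lf (nat_lit 0x70012)) (lf (nat_lit 0x60010))) (nd 2475 (lf (nat_lit 0x20010)) (lf (nat_lit 0x70010)))) (nd 2478 (nd 2477 (lf (nat_lit 0x20012)) (lf (nat_lit 0x30012))) (nd 2479 (lf (nat_lit 0x70012)) (lf (nat_lit 0x30010)))))) (nd 2488 (nd 2484 (nd 2482 (nd 2481 (lf (nat_lit 0x70010)) (lf (nat_lit 0x90012))) (nd 2483 (lf (nat_lit 0x70012)) (lf (nat_lit 0x90012)))) (nd 2486 (nd 2485 (lf (nat_lit 0x90010)) (lf (nat_lit 0x70012))) (nd 2487 (lf (nat_lit 0x30014)) (lf (nat_lit 0x70010))))) (nd 2492 (nd 2490 (nd 2489 (lf (nat_lit 0x70010)) (lf (nat_lit 0x40010))) (nd 2491 (lf (nat_lit 0x70012)) (lf (nat_lit 0x50010)))) (nd 2494 (nd 2493 (lf (nat_lit 0x7001000000000)) (lf (nat_lit 0x40010))) (nd 2495 (lf (nat_lit 0x70010)) (lf (nat_lit 0x70012)))))))) (nd 2528 (nd 2512 (nd 2504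 (nd 2500 (nd 2498 (nd 2497 (lf (nat_lit 0x40010)) (lf (nat_lit 0x4000e00000000))) (nd 2499 (lf (nat_lit 0x7000e00000000)) (lf (nat_lit 0x9000c00000000)))) (nd 2502 (nd 2501 (lf (nat_lit 0x7000e00000000)) (lf (nat_lit 0x40012))) (nd 2503 (lf (nat_lit 0x10012)) (lf (nat_lit 0x40012))))) (nd 2508 (nd 2506 (nd 2505 (lf (nat_lit 0x70012)) (lf (nat_lit 0x70012))) (nd 2507 (lf (nat_lit 0x30010)) (lf (nat_lit 0x70012)))) (nd 2510 (nd 2509 (lf (nat_lit 0x30012)) (lf (nat_lit 0x70012))) (nd 2511 (lf (nat_lit 0x7001000000000)) (lf (nat_lit 0x9000e)))))) (nd 2520 (nd 2516 (nd 2514 (nd 2513 (lf (nat_lit 0x7000e00000000)) (lf (nat_lit 0x9001000000000))) (nd 2515 (lf (nat_lit 0x30014)) (lf (nat_lit 0x70014)))) (nd 2518 (nd 2517 (lf (nat_lit 0x60014)) (lf (nat_lit 0x90012))) (nd 2519 (lf (nat_lit 0x40012)) (lf (nat_lit 0x20014))))) (nd 2524 (nd 2522 (nd 2521 (lf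 (nat_lit 0x90014)) (lf (nat_lit 0x60014))) (nd 2523 (lf (nat_lit 0x40012)) (lf (nat_lit 0x70014)))) (nd 2526 (nd 2525 (lf (nat_lit 0x90010)) (lf (nat_lit 0x40010))) (nd 2527 (lf (nat_lit 0x70012)) (lf (nat_lit 0x50012))))))) (nd 2544 (nd 2536 (nd 2532 (nd 2530 (nd 2529 (lf (nat_lit 0x90012)) (lf (nat_lit 0x30014))) (nd 2531 (lf (nat_lit 0x70014)) (lf (nat_lit 0x90010)))) (nd 2534 (nd 2533 (lf (nat_lit 0x40012)) (lf (nat_lit 0x70012))) (nd 2535 (lf (nat_lit 0x50012)) (lf (nat_lit 0x40014))))) (nd 2540 (nd 2538 (nd 2537 (lf (nat_lit 0x90014)) (lf (nat_lit 0x20014))) (nd 2539 (lf (nat_lit 0x90012)) (lf (nat_lit 0x70014)))) (nd 2542 (nd 2541 (lf (nat_lit 0x90010)) (lf (nat_lit 0x70012))) (nd 2543 (lf (nat_lit 0x70010)) (lf (nat_lit 0x40010)))))) (nd 2552 (nd 2548 (nd 2546 (nd 2545 (lf (nat_lit 0x70010)) (lf (nat_lit 0x90010))) (nd 2547 (lf (nat_lit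 0x90012)) (lf (nat_lit 0x90012)))) (nd 2550 (nd 2549 (lf (nat_lit 0x9001000000000)) (lf (nat_lit 0x90010))) (nd 2551 (lf (nat_lit 0x70010)) (lf (nat_lit 0x6001000000000))))) (nd 2556 (nd 2554 (nd 2553 (lf (nat_lit 0x20014)) (lf (nat_lit 0x70014))) (nd 2555 (lf (nat_lit 0x20014)) (lf (nat_lit 0x60014)))) (nd 2558 (nd 2557 (lf (nat_lit 0x20012)) (lf (nat_lit 0x70012))) (nd 2559 (lf (nat_lit 0x20012)) (lf (nat_lit 0x60014))))))))))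
noncomputable def um_lab_c10 : ℕ → ℕ := (nd 2688 (nd 2624 (nd 2592 (nd 2576 (nd 2568 (nd 2564 (nd 2562 (nd 2561 (lf (nat_lit 0x70014)) (lf (nat_lit 0x70014))) (nd 2563 (lf (nat_lit 0x70014)) (lf (nat_lit 0x70012)))) (nd 2566 (nd 2565 (lf (nat_lit 0x20012)) (lf (nat_lit 0x70014))) (nd 2567 (lf (nat_lit 0x90010)) (lf (nat_lit 0x60012))))) (nd 2572 (nd 2570 (nd 2569 (lf (nat_lit 0x20012)) (lf (nat_lit 0x30014))) (nd 2571 (lf (nat_lit 0x70014)) (lf (nat_lit 0x10014)))) (nd 2574 (nd 2573 (lf (nat_lit 0x20014)) (lf (nat_lit 0x90010))) (nd 2575 (lf (nat_lit 0x30012)) (lf (nat_lit 0x20012)))))) (nd 2584 (nd 2580 (nd 2578 (nd 2577 (lf (nat_lit 0x90012)) (lf (nat_lit 0x70014))) (nd 2579 (lf (nat_lit 0x60014)) (lf (nat_lit 0x50012)))) (nd 2582 (nd 2581 (lf (nat_lit 0x70014)) (lf (nat_lit 0x90010))) (nd 2583 (lf (nat_lit 0x70012)) (lf (nat_lit 0x70010)))))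 (nd 2588 (nd 2586 (nd 2585 (lf (nat_lit 0x70010)) (lf (nat_lit 0x70010))) (nd 2587 (lf (nat_lit 0x90012)) (lf (nat_lit 0x90010)))) (nd 2590 (nd 2589 (lf (nat_lit 0x70012)) (lf (nat_lit 0x90010))) (nd 2591 (lf (nat_lit 0x70010)) (lf (nat_lit 0x9000e))))))) (nd 2608 (nd 2600 (nd 2596 (nd 2594 (nd 2593 (lf (nat_lit 0x20012)) (lf (nat_lit 0x90010))) (nd 2595 (lf (nat_lit 0x70010)) (lf (nat_lit 0x30012)))) (nd 2598 (nd 2597 (lf (nat_lit 0x70012)) (lf (nat_lit 0x90010))) (nd 2599 (lf (nat_lit 0x90010)) (lf (nat_lit 0x70010))))) (nd 2604 (nd 2602 (nd 2601 (lf (nat_lit 0x90012)) (lf (nat_lit 0x30012))) (nd 2603 (lf (nat_lit 0x90012)) (lf (nat_lit 0x70012)))) (nd 2606 (nd 2605 (lf (nat_lit 0x90012)) (lf (nat_lit 0x60012))) (nd 2607 (lf (nat_lit 0x90012)) (lf (nat_lit 0x70014)))))) (nd 2616 (nd 2612 (nd 2610 (nd 2609 (lf (nat_lit 0x9000f00000000)) (lf (nat_lit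 0x7001100000000))) (nd 2611 (lf (nat_lit 0x40011)) (lf (nat_lit 0x70011)))) (nd 2614 (nd 2613 (lf (nat_lit 0x4000f)) (lf (nat_lit 0x70011))) (nd 2615 (lf (nat_lit 0x20011)) (lf (nat_lit 0x70011))))) (nd 2620 (nd 2618 (nd 2617 (lf (nat_lit 0x70011)) (lf (nat_lit 0x40011))) (nd 2619 (lf (nat_lit 0x70011)) (lf (nat_lit 0x9000f)))) (nd 2622 (nd 2621 (lf (nat_lit 0x70011)) (lf (nat_lit 0x60011))) (nd 2623 (lf (nat_lit 0x20011)) (lf (nat_lit 0x70011)))))))) (nd 2656 (nd 2640 (nd 2632 (nd 2628 (nd 2626 (nd 2625 (lf (nat_lit 0x4000f00000000)) (lf (nat_lit 0x7001100000000))) (nd 2627 (lf (nat_lit 0x50011)) (lf (nat_lit 0x7001100000000)))) (nd 2630 (nd 2629 (lf (nat_lit 0x9001100000000)) (lf (nat_lit 0x90011))) (nd 2631 (lf (nat_lit 0x90011)) (lf (nat_lit 0x70011))))) (nd 2636 (nd 2634 (nd 2633 (lf (nat_lit 0x90011)) (lf (nat_lit 0x70011))) (nd 2635 (lf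 (nat_lit 0x30013)) (lf (nat_lit 0x90011)))) (nd 2638 (nd 2637 (lf (nat_lit 0x70011)) (lf (nat_lit 0x9001100000000))) (nd 2639 (lf (nat_lit 0x40011)) (lf (nat_lit 0x50013)))))) (nd 2648 (nd 2644 (nd 2642 (nd 2641 (lf (nat_lit 0x60013)) (lf (nat_lit 0x40011))) (nd 2643 (lf (nat_lit 0x60013)) (lf (nat_lit 0x9000f)))) (nd 2646 (nd 2645 (lf (nat_lit 0x70011)) (lf (nat_lit 0x70011))) (nd 2647 (lf (nat_lit 0x60013)) (lf (nat_lit 0x70011))))) (nd 2652 (nd 2650 (nd 2649 (lf (nat_lit 0x60011)) (lf (nat_lit 0x20013))) (nd 2651 (lf (nat_lit 0x60013)) (lf (nat_lit 0x60011)))) (nd 2654 (nd 2653 (lf (nat_lit 0x40011)) (lf (nat_lit 0x20013))) (nd 2655 (lf (nat_lit 0x9000f)) (lf (nat_lit 0x70011))))))) (nd 2672 (nd 2664 (nd 2660 (nd 2658 (nd 2657 (lf (nat_lit 0x60013)) (lf (nat_lit 0x90011))) (nd 2659 (lf (nat_lit 0x60011)) (lf (nat_lit 0x30011)))) (nd 2662 (nd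 2661 (lf (nat_lit 0x40013)) (lf (nat_lit 0x40011))) (nd 2663 (lf (nat_lit 0x60013)) (lf (nat_lit 0x70013))))) (nd 2668 (nd 2666 (nd 2665 (lf (nat_lit 0x90011)) (lf (nat_lit 0x20011))) (nd 2667 (lf (nat_lit 0x60011)) (lf (nat_lit 0x30013)))) (nd 2670 (nd 2669 (lf (nat_lit 0x40013)) (lf (nat_lit 0x20013))) (nd 2671 (lf (nat_lit 0x20011)) (lf (nat_lit 0x90011)))))) (nd 2680 (nd 2676 (nd 2674 (nd 2673 (lf (nat_lit 0x70013)) (lf (nat_lit 0x20013))) (nd 2675 (lf (nat_lit 0x9000f)) (lf (nat_lit 0x70011)))) (nd 2678 (nd 2677 (lf (nat_lit 0x60013)) (lf (nat_lit 0x9000f))) (nd 2679 (lf (nat_lit 0x70011)) (lf (nat_lit 0x70011))))) (nd 2684 (nd 2682 (nd 2681 (lf (nat_lit 0x40011)) (lf (nat_lit 0x30013))) (nd 2683 (lf (nat_lit 0x40013)) (lf (nat_lit 0x9000d00000000)))) (nd 2686 (nd 2685 (lf (nat_lit 0x7000f00000000)) (lf (nat_lit 0x30011))) (nd 2687 (lf (nat_lit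 0x7001100000000)) (lf (nat_lit 0x6001100000000))))))))) (nd 2752 (nd 2720 (nd 2704 (nd 2696 (nd 2692 (nd 2690 (nd 2689 (lf (nat_lit 0x40011)) (lf (nat_lit 0x70011))) (nd 2691 (lf (nat_lit 0x9001100000000)) (lf (nat_lit 0x9000d00000000)))) (nd 2694 (nd 2693 (lf (nat_lit 0x7000d00000000)) (lf (nat_lit 0x7000f))) (nd 2695 (lf (nat_lit 0x40011)) (lf (nat_lit 0x70011))))) (nd 2700 (nd 2698 (nd 2697 (lf (nat_lit 0x60011)) (lf (nat_lit 0x90011))) (nd 2699 (lf (nat_lit 0x70011)) (lf (nat_lit 0x20013)))) (nd 2702 (nd 2701 (lf (nat_lit 0x60013)) (lf (nat_lit 0x30011))) (nd 2703 (lf (nat_lit 0x70011)) (lf (nat_lit 0x60011)))))) (nd 2712 (nd 2708 (nd 2706 (nd 2705 (lf (nat_lit 0x20013)) (lf (nat_lit 0x70013))) (nd 2707 (lf (nat_lit 0x20013)) (lf (nat_lit 0x20013)))) (nd 2710 (nd 2709 (lf (nat_lit 0x30013)) (lf (nat_lit 0x70013))) (nd 2711 (lf (nat_lit 0x90011))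 (lf (nat_lit 0x50013))))) (nd 2716 (nd 2714 (nd 2713 (lf (nat_lit 0x70013)) (lf (nat_lit 0x60013))) (nd 2715 (lf (nat_lit 0x50011)) (lf (nat_lit 0x40011)))) (nd 2718 (nd 2717 (lf (nat_lit 0x50013)) (lf (nat_lit 0x60013))) (nd 2719 (lf (nat_lit 0x60011)) (lf (nat_lit 0x20011))))))) (nd 2736 (nd 2728 (nd 2724 (nd 2722 (nd 2721 (lf (nat_lit 0x70011)) (lf (nat_lit 0x20011))) (nd 2723 (lf (nat_lit 0x70011)) (lf (nat_lit 0x20011)))) (nd 2726 (nd 2725 (lf (nat_lit 0x30013)) (lf (nat_lit 0x70013))) (nd 2727 (lf (nat_lit 0x30011)) (lf (nat_lit 0x70011))))) (nd 2732 (nd 2730 (nd 2729 (lf (nat_lit 0x70013)) (lf (nat_lit 0x90011))) (nd 2731 (lf (nat_lit 0x70011)) (lf (nat_lit 0x30013)))) (nd 2734 (nd 2733 (lf (nat_lit 0x70013)) (lf (nat_lit 0x20011))) (nd 2735 (lf (nat_lit 0x70011)) (lf (nat_lit 0x30011)))))) (nd 2744 (nd 2740 (nd 2738 (nd 2737 (lf (nat_lit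 0x70011)) (lf (nat_lit 0x40011))) (nd 2739 (lf (nat_lit 0x30013)) (lf (nat_lit 0x70013)))) (nd 2742 (nd 2741 (lf (nat_lit 0x90013)) (lf (nat_lit 0x70013))) (nd 2743 (lf (nat_lit 0x60013)) (lf (nat_lit 0x40011))))) (nd 2748 (nd 2746 (nd 2745 (lf (nat_lit 0x70011)) (lf (nat_lit 0x60011))) (nd 2747 (lf (nat_lit 0x90011)) (lf (nat_lit 0x70013)))) (nd 2750 (nd 2749 (lf (nat_lit 0x90013)) (lf (nat_lit 0x70011))) (nd 2751 (lf (nat_lit 0x60013)) (lf (nat_lit 0x40011)))))))) (nd 2784 (nd 2768 (nd 2760 (nd 2756 (nd 2754 (nd 2753 (lf (nat_lit 0x70011)) (lf (nat_lit 0x60011))) (nd 2755 (lf (nat_lit 0x70011)) (lf (nat_lit 0x7000f00000000)))) (nd 2758 (nd 2757 (lf (nat_lit 0x9000d)) (lf (nat_lit 0x7000d00000000))) (nd 2759 (lf (nat_lit 0x9000f00000000)) (lf (nat_lit 0x30013))))) (nd 2764 (nd 2762 (nd 2761 (lf (nat_lit 0x70013)) (lf (nat_lit 0x10013))) (nd 2763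 (lf (nat_lit 0x70013)) (lf (nat_lit 0x30013)))) (nd 2766 (nd 2765 (lf (nat_lit 0x70013)) (lf (nat_lit 0x70011))) (nd 2767 (lf (nat_lit 0x9000f)) (lf (nat_lit 0x30013)))))) (nd 2776 (nd 2772 (nd 2770 (nd 2769 (lf (nat_lit 0x90011)) (lf (nat_lit 0x9000f00000000))) (nd 2771 (lf (nat_lit 0x9000f)) (lf (nat_lit 0x7000f)))) (nd 2774 (nd 2773 (lf (nat_lit 0x6000f00000000)) (lf (nat_lit 0x60015))) (nd 2775 (lf (nat_lit 0x70015)) (lf (nat_lit 0x30013))))) (nd 2780 (nd 2778 (nd 2777 (lf (nat_lit 0x70015)) (lf (nat_lit 0x90011))) (nd 2779 (lf (nat_lit 0x40013)) (lf (nat_lit 0x70013)))) (nd 2782 (nd 2781 (lf (nat_lit 0x50013)) (lf (nat_lit 0x40013))) (nd 2783 (lf (nat_lit 0x90015)) (lf (nat_lit 0x70013))))))) (nd 2800 (nd 2792 (nd 2788 (nd 2786 (nd 2785 (lf (nat_lit 0x70011)) (lf (nat_lit 0x40011))) (nd 2787 (lf (nat_lit 0x70011)) (lf (nat_lit 0x90013))))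 (nd 2790 (nd 2789 (lf (nat_lit 0x90011)) (lf (nat_lit 0x30013))) (nd 2791 (lf (nat_lit 0x70015)) (lf (nat_lit 0x90011))))) (nd 2796 (nd 2794 (nd 2793 (lf (nat_lit 0x70011)) (lf (nat_lit 0x40011))) (nd 2795 (lf (nat_lit 0x70013)) (lf (nat_lit 0x90011)))) (nd 2798 (nd 2797 (lf (nat_lit 0x40013)) (lf (nat_lit 0x90013))) (nd 2799 (lf (nat_lit 0x90013)) (lf (nat_lit 0x70015)))))) (nd 2808 (nd 2804 (nd 2802 (nd 2801 (lf (nat_lit 0x90015)) (lf (nat_lit 0x90011))) (nd 2803 (lf (nat_lit 0x70013)) (lf (nat_lit 0x70011)))) (nd 2806 (nd 2805 (lf (nat_lit 0x70011)) (lf (nat_lit 0x90011))) (nd 2807 (lf (nat_lit 0x90011)) (lf (nat_lit 0x70011))))) (nd 2812 (nd 2810 (nd 2809 (lf (nat_lit 0x90013)) (lf (nat_lit 0x70011))) (nd 2811 (lf (nat_lit 0x60011)) (lf (nat_lit 0x70015)))) (nd 2814 (nd 2813 (lf (nat_lit 0x20015)) (lf (nat_lit 0x70013))) (nd 2815 (lf (nat_lit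 0x60013)) (lf (nat_lit 0x70013))))))))))
noncomputable def um_lab_c11 : ℕ → ℕ := (nd 2944 (nd 2880 (nd 2848 (nd 2832 (nd 2824 (nd 2820 (nd 2818 (nd 2817 (lf (nat_lit 0x70015)) (lf (nat_lit 0x60015))) (nd 2819 (lf (nat_lit 0x90011)) (lf (nat_lit 0x20013)))) (nd 2822 (nd 2821 (lf (nat_lit 0x60015)) (lf (nat_lit 0x70011))) (nd 2823 (lf (nat_lit 0x90011)) (lf (nat_lit 0x30013))))) (nd 2828 (nd 2826 (nd 2825 (lf (nat_lit 0x70013)) (lf (nat_lit 0x90013))) (nd 2827 (lf (nat_lit 0x70015)) (lf (nat_lit 0x60015)))) (nd 2830 (nd 2829 (lf (nat_lit 0x50013)) (lf (nat_lit 0x70015))) (nd 2831 (lf (nat_lit 0x20015)) (lf (nat_lit 0x90011)))))) (nd 2840 (nd 2836 (nd 2834 (nd 2833 (lf (nat_lit 0x90011)) (lf (nat_lit 0x70011))) (nd 2835 (lf (nat_lit 0x90013)) (lf (nat_lit 0x30013)))) (nd 2838 (nd 2837 (lf (nat_lit 0x20013)) (lf (nat_lit 0x70013))) (nd 2839 (lf (nat_lit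 0x60015)) (lf (nat_lit 0x60013))))) (nd 2844 (nd 2842 (nd 2841 (lf (nat_lit 0x70011)) (lf (nat_lit 0x90011))) (nd 2843 (lf (nat_lit 0x70011)) (lf (nat_lit 0x9000f)))) (nd 2846 (nd 2845 (lf (nat_lit 0x7000f)) (lf (nat_lit 0x90011))) (nd 2847 (lf (nat_lit 0x70013)) (lf (nat_lit 0x90011))))))) (nd 2864 (nd 2856 (nd 2852 (nd 2850 (nd 2849 (lf (nat_lit 0x40011)) (lf (nat_lit 0x70011))) (nd 2851 (lf (nat_lit 0x60011)) (lf (nat_lit 0x70013)))) (nd 2854 (nd 2853 (lf (nat_lit 0x90013)) (lf (nat_lit 0x40013))) (nd 2855 (lf (nat_lit 0x70013)) (lf (nat_lit 0x9000e00000000))))) (nd 2860 (nd 2858 (nd 2857 (lf (nat_lit 0x9000e00000000)) (lf (nat_lit 0x7001000000000))) (nd 2859 (lf (nat_lit 0x70012)) (lf (nat_lit 0x9000e)))) (nd 2862 (nd 2861 (lf (nat_lit 0x70010)) (lf (nat_lit 0x60012))) (nd 2863 (lf (nat_lit 0x70012)) (lf (nat_lit 0x90010)))))) (nd 2872 (nd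 2868 (nd 2866 (nd 2865 (lf (nat_lit 0x70012)) (lf (nat_lit 0x60012))) (nd 2867 (lf (nat_lit 0x9000e)) (lf (nat_lit 0x70010)))) (nd 2870 (nd 2869 (lf (nat_lit 0x60012)) (lf (nat_lit 0x50012))) (nd 2871 (lf (nat_lit 0x20012)) (lf (nat_lit 0x90012))))) (nd 2876 (nd 2874 (nd 2873 (lf (nat_lit 0x40010)) (lf (nat_lit 0x7001000000000))) (nd 2875 (lf (nat_lit 0x6001200000000)) (lf (nat_lit 0x50012)))) (nd 2878 (nd 2877 (lf (nat_lit 0x70012)) (lf (nat_lit 0x9001200000000))) (nd 2879 (lf (nat_lit 0x90012)) (lf (nat_lit 0x70012)))))))) (nd 2912 (nd 2896 (nd 2888 (nd 2884 (nd 2882 (nd 2881 (lf (nat_lit 0x90012)) (lf (nat_lit 0x90012))) (nd 2883 (lf (nat_lit 0x70012)) (lf (nat_lit 0x70012)))) (nd 2886 (nd 2885 (lf (nat_lit 0x60012)) (lf (nat_lit 0x70012))) (nd 2887 (lf (nat_lit 0x40012)) (lf (nat_lit 0x40012))))) (nd 2892 (nd 2890 (nd 2889 (lf (nat_lit 0x50014))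 (lf (nat_lit 0x60014))) (nd 2891 (lf (nat_lit 0x60012)) (lf (nat_lit 0x30012)))) (nd 2894 (nd 2893 (lf (nat_lit 0x70012)) (lf (nat_lit 0x70010))) (nd 2895 (lf (nat_lit 0x60012)) (lf (nat_lit 0x40012)))))) (nd 2904 (nd 2900 (nd 2898 (nd 2897 (lf (nat_lit 0x60014)) (lf (nat_lit 0x70014))) (nd 2899 (lf (nat_lit 0x90012)) (lf (nat_lit 0x20012)))) (nd 2902 (nd 2901 (lf (nat_lit 0x60012)) (lf (nat_lit 0x30012))) (nd 2903 (lf (nat_lit 0x40012)) (lf (nat_lit 0x20014))))) (nd 2908 (nd 2906 (nd 2905 (lf (nat_lit 0x90010)) (lf (nat_lit 0x70012))) (nd 2907 (lf (nat_lit 0x20014)) (lf (nat_lit 0x70010)))) (nd 2910 (nd 2909 (lf (nat_lit 0x60012)) (lf (nat_lit 0x70012))) (nd 2911 (lf (nat_lit 0x30012)) (lf (nat_lit 0x40012))))))) (nd 2928 (nd 2920 (nd 2916 (nd 2914 (nd 2913 (lf (nat_lit 0x40012)) (lf (nat_lit 0x70012))) (nd 2915 (lf (nat_lit 0x30014)) (lf (nat_lit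 0x40014)))) (nd 2918 (nd 2917 (lf (nat_lit 0x70014)) (lf (nat_lit 0x90012))) (nd 2919 (lf (nat_lit 0x70012)) (lf (nat_lit 0x20012))))) (nd 2924 (nd 2922 (nd 2921 (lf (nat_lit 0x40012)) (lf (nat_lit 0x30014))) (nd 2923 (lf (nat_lit 0x90012)) (lf (nat_lit 0x70014)))) (nd 2926 (nd 2925 (lf (nat_lit 0x20014)) (lf (nat_lit 0x20012))) (nd 2927 (lf (nat_lit 0x90010)) (lf (nat_lit 0x70012)))))) (nd 2936 (nd 2932 (nd 2930 (nd 2929 (lf (nat_lit 0x60014)) (lf (nat_lit 0x70010))) (nd 2931 (lf (nat_lit 0x60012)) (lf (nat_lit 0x70010)))) (nd 2934 (nd 2933 (lf (nat_lit 0x60012)) (lf (nat_lit 0x40012))) (nd 2935 (lf (nat_lit 0x70012)) (lf (nat_lit 0x40014))))) (nd 2940 (nd 2938 (nd 2937 (lf (nat_lit 0x7000e00000000)) (lf (nat_lit 0x9001000000000))) (nd 2939 (lf (nat_lit 0x70012)) (lf (nat_lit 0x4001000000000)))) (nd 2942 (nd 2941 (lf (nat_lit 0x70012)) (lf (nat_lit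 0x50012))) (nd 2943 (lf (nat_lit 0x7000e00000000)) (lf (nat_lit 0x60010))))))))) (nd 3008 (nd 2976 (nd 2960 (nd 2952 (nd 2948 (nd 2946 (nd 2945 (lf (nat_lit 0x70012)) (lf (nat_lit 0x60012))) (nd 2947 (lf (nat_lit 0x90012)) (lf (nat_lit 0x70012)))) (nd 2950 (nd 2949 (lf (nat_lit 0x20012)) (lf (nat_lit 0x20014))) (nd 2951 (lf (nat_lit 0x70012)) (lf (nat_lit 0x90010))))) (nd 2956 (nd 2954 (nd 2953 (lf (nat_lit 0x60014)) (lf (nat_lit 0x70014))) (nd 2955 (lf (nat_lit 0x20014)) (lf (nat_lit 0x70014)))) (nd 2958 (nd 2957 (lf (nat_lit 0x20014)) (lf (nat_lit 0x70014))) (nd 2959 (lf (nat_lit 0x90012)) (lf (nat_lit 0x20012)))))) (nd 2968 (nd 2964 (nd 2962 (nd 2961 (lf (nat_lit 0x20012)) (lf (nat_lit 0x50012))) (nd 2963 (lf (nat_lit 0x60012)) (lf (nat_lit 0x40012)))) (nd 2966 (nd 2965 (lf (nat_lit 0x60012)) (lf (nat_lit 0x50014))) (nd 2967 (lf (nat_lit 0x20014))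 (lf (nat_lit 0x30012))))) (nd 2972 (nd 2970 (nd 2969 (lf (nat_lit 0x70012)) (lf (nat_lit 0x30012))) (nd 2971 (lf (nat_lit 0x70012)) (lf (nat_lit 0x30012)))) (nd 2974 (nd 2973 (lf (nat_lit 0x70012)) (lf (nat_lit 0x70014))) (nd 2975 (lf (nat_lit 0x60014)) (lf (nat_lit 0x40012))))))) (nd 2992 (nd 2984 (nd 2980 (nd 2978 (nd 2977 (lf (nat_lit 0x70012)) (lf (nat_lit 0x60012))) (nd 2979 (lf (nat_lit 0x90012)) (lf (nat_lit 0x40014)))) (nd 2982 (nd 2981 (lf (nat_lit 0x70014)) (lf (nat_lit 0x60014))) (nd 2983 (lf (nat_lit 0x30012)) (lf (nat_lit 0x70012))))) (nd 2988 (nd 2986 (nd 2985 (lf (nat_lit 0x40012)) (lf (nat_lit 0x70012))) (nd 2987 (lf (nat_lit 0x60012)) (lf (nat_lit 0x40012)))) (nd 2990 (nd 2989 (lf (nat_lit 0x30012)) (lf (nat_lit 0x70012))) (nd 2991 (lf (nat_lit 0x40014)) (lf (nat_lit 0x70014)))))) (nd 3000 (nd 2996 (nd 2994 (nd 2993 (lf (nat_lit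 0x60014)) (lf (nat_lit 0x90012))) (nd 2995 (lf (nat_lit 0x70014)) (lf (nat_lit 0x60014)))) (nd 2998 (nd 2997 (lf (nat_lit 0x40012)) (lf (nat_lit 0x70012))) (nd 2999 (lf (nat_lit 0x60012)) (lf (nat_lit 0x70012))))) (nd 3004 (nd 3002 (nd 3001 (lf (nat_lit 0x40014)) (lf (nat_lit 0x90014))) (nd 3003 (lf (nat_lit 0x60012)) (lf (nat_lit 0x70012)))) (nd 3006 (nd 3005 (lf (nat_lit 0x9000e00000000)) (lf (nat_lit 0x7000e))) (nd 3007 (lf (nat_lit 0x6000e00000000)) (lf (nat_lit 0x70014)))))))) (nd 3040 (nd 3024 (nd 3016 (nd 3012 (nd 3010 (nd 3009 (lf (nat_lit 0x70014)) (lf (nat_lit 0x90010))) (nd 3011 (lf (nat_lit 0x30014)) (lf (nat_lit 0x60014)))) (nd 3014 (nd 3013 (lf (nat_lit 0x90010)) (lf (nat_lit 0x70010))) (nd 3015 (lf (nat_lit 0x90012)) (lf (nat_lit 0x70010))))) (nd 3020 (nd 3018 (nd 3017 (lf (nat_lit 0x60010)) (lf (nat_lit 0x70016))) (nd 3019 (lf (nat_lit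 0x30012)) (lf (nat_lit 0x70014)))) (nd 3022 (nd 3021 (lf (nat_lit 0x90012)) (lf (nat_lit 0x70012))) (nd 3023 (lf (nat_lit 0x40012)) (lf (nat_lit 0x70014)))))) (nd 3032 (nd 3028 (nd 3026 (nd 3025 (lf (nat_lit 0x40012)) (lf (nat_lit 0x90014))) (nd 3027 (lf (nat_lit 0x70014)) (lf (nat_lit 0x90016)))) (nd 3030 (nd 3029 (lf (nat_lit 0x70012)) (lf (nat_lit 0x90012))) (nd 3031 (lf (nat_lit 0x90012)) (lf (nat_lit 0x90012))))) (nd 3036 (nd 3034 (nd 3033 (lf (nat_lit 0x70014)) (lf (nat_lit 0x60016))) (nd 3035 (lf (nat_lit 0x90012)) (lf (nat_lit 0x70012)))) (nd 3038 (nd 3037 (lf (nat_lit 0x70012)) (lf (nat_lit 0x60014))) (nd 3039 (lf (nat_lit 0x90012)) (lf (nat_lit 0x90012))))))) (nd 3056 (nd 3048 (nd 3044 (nd 3042 (nd 3041 (lf (nat_lit 0x70012)) (lf (nat_lit 0x90012))) (nd 3043 (lf (nat_lit 0x70014)) (lf (nat_lit 0x90014)))) (nd 3046 (nd 3045 (lf (nat_lit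 0x90012)) (lf (nat_lit 0x70014))) (nd 3047 (lf (nat_lit 0x60016)) (lf (nat_lit 0x70012))))) (nd 3052 (nd 3050 (nd 3049 (lf (nat_lit 0x90012)) (lf (nat_lit 0x70012))) (nd 3051 (lf (nat_lit 0x90012)) (lf (nat_lit 0x90014)))) (nd 3054 (nd 3053 (lf (nat_lit 0x60012)) (lf (nat_lit 0x60016))) (nd 3055 (lf (nat_lit 0x20016)) (lf (nat_lit 0x60014)))))) (nd 3064 (nd 3060 (nd 3058 (nd 3057 (lf (nat_lit 0x70014)) (lf (nat_lit 0x60014))) (nd 3059 (lf (nat_lit 0x60016)) (lf (nat_lit 0x70012)))) (nd 3062 (nd 3061 (lf (nat_lit 0x20014)) (lf (nat_lit 0x90012))) (nd 3063 (lf (nat_lit 0x90012)) (lf (nat_lit 0x70012))))) (nd 3068 (nd 3066 (nd 3065 (lf (nat_lit 0x40014)) (lf (nat_lit 0x70014))) (nd 3067 (lf (nat_lit 0x60014)) (lf (nat_lit 0x70014)))) (nd 3070 (nd 3069 (lf (nat_lit 0x60016)) (lf (nat_lit 0x20014))) (nd 3071 (lf (nat_lit 0x60016)) (lf (nat_lit 0x70012))))))))))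
noncomputable def um_lab_c12 : ℕ → ℕ := (nd 3200 (nd 3136 (nd 3104 (nd 3088 (nd 3080 (nd 3076 (nd 3074 (nd 3073 (lf (nat_lit 0x40012)) (lf (nat_lit 0x70012))) (nd 3075 (lf (nat_lit 0x60012)) (lf (nat_lit 0x70014)))) (nd 3078 (nd 3077 (lf (nat_lit 0x30014)) (lf (nat_lit 0x60014))) (nd 3079 (lf (nat_lit 0x70012)) (lf (nat_lit 0x60010))))) (nd 3084 (nd 3082 (nd 3081 (lf (nat_lit 0x40012)) (lf (nat_lit 0x70012))) (nd 3083 (lf (nat_lit 0x60012)) (lf (nat_lit 0x40014)))) (nd 3086 (nd 3085 (lf (nat_lit 0x90014)) (lf (nat_lit 0x7000f00000000))) (nd 3087 (lf (nat_lit 0x7000f00000000)) (lf (nat_lit 0x6001100000000)))))) (nd 3096 (nd 3092 (nd 3090 (nd 3089 (lf (nat_lit 0x60013)) (lf (nat_lit 0x7000f))) (nd 3091 (lf (nat_lit 0x60011)) (lf (nat_lit 0x90013)))) (nd 3094 (nd 3093 (lf (nat_lit 0x70011)) (lf (nat_lit 0x60013))) (nd 3095 (lf (nat_lit 0x7000f)) (lf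 (nat_lit 0x60011))))) (nd 3100 (nd 3098 (nd 3097 (lf (nat_lit 0x40013)) (lf (nat_lit 0x20013))) (nd 3099 (lf (nat_lit 0x20013)) (lf (nat_lit 0x70011)))) (nd 3102 (nd 3101 (lf (nat_lit 0x6001100000000)) (lf (nat_lit 0x70013))) (nd 3103 (lf (nat_lit 0x90013)) (lf (nat_lit 0x9001100000000))))))) (nd 3120 (nd 3112 (nd 3108 (nd 3106 (nd 3105 (lf (nat_lit 0x40013)) (lf (nat_lit 0x40013))) (nd 3107 (lf (nat_lit 0x70013)) (lf (nat_lit 0x40013)))) (nd 3110 (nd 3109 (lf (nat_lit 0x70013)) (lf (nat_lit 0x70013))) (nd 3111 (lf (nat_lit 0x60013)) (lf (nat_lit 0x40013))))) (nd 3116 (nd 3114 (nd 3113 (lf (nat_lit 0x40013)) (lf (nat_lit 0x40013))) (nd 3115 (lf (nat_lit 0x60013)) (lf (nat_lit 0x50013)))) (nd 3118 (nd 3117 (lf (nat_lit 0x20013)) (lf (nat_lit 0x20015))) (nd 3119 (lf (nat_lit 0x70013)) (lf (nat_lit 0x20013)))))) (nd 3128 (nd 3124 (nd 3122 (nd 3121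 (lf (nat_lit 0x60011)) (lf (nat_lit 0x40013))) (nd 3123 (lf (nat_lit 0x70013)) (lf (nat_lit 0x30013)))) (nd 3126 (nd 3125 (lf (nat_lit 0x40013)) (lf (nat_lit 0x70015))) (nd 3127 (lf (nat_lit 0x90013)) (lf (nat_lit 0x70013))))) (nd 3132 (nd 3130 (nd 3129 (lf (nat_lit 0x20013)) (lf (nat_lit 0x30013))) (nd 3131 (lf (nat_lit 0x90011)) (lf (nat_lit 0x70013)))) (nd 3134 (nd 3133 (lf (nat_lit 0x20015)) (lf (nat_lit 0x70011))) (nd 3135 (lf (nat_lit 0x60013)) (lf (nat_lit 0x60011)))))))) (nd 3168 (nd 3152 (nd 3144 (nd 3140 (nd 3138 (nd 3137 (lf (nat_lit 0x40013)) (lf (nat_lit 0x70013))) (nd 3139 (lf (nat_lit 0x30013)) (lf (nat_lit 0x70015)))) (nd 3142 (nd 3141 (lf (nat_lit 0x90013)) (lf (nat_lit 0x70015))) (nd 3143 (lf (nat_lit 0x20015)) (lf (nat_lit 0x90011))))) (nd 3148 (nd 3146 (nd 3145 (lf (nat_lit 0x70013)) (lf (nat_lit 0x20013))) (nd 3147 (lf (nat_lit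 0x40013)) (lf (nat_lit 0x70013)))) (nd 3150 (nd 3149 (lf (nat_lit 0x30015)) (lf (nat_lit 0x90011))) (nd 3151 (lf (nat_lit 0x70013)) (lf (nat_lit 0x60015)))))) (nd 3160 (nd 3156 (nd 3154 (nd 3153 (lf (nat_lit 0x70011)) (lf (nat_lit 0x60013))) (nd 3155 (lf (nat_lit 0x20015)) (lf (nat_lit 0x60011)))) (nd 3158 (nd 3157 (lf (nat_lit 0x60011)) (lf (nat_lit 0x70013))) (nd 3159 (lf (nat_lit 0x30013)) (lf (nat_lit 0x40015))))) (nd 3164 (nd 3162 (nd 3161 (lf (nat_lit 0x9000f00000000)) (lf (nat_lit 0x40011))) (nd 3163 (lf (nat_lit 0x50013)) (lf (nat_lit 0x6000f00000000)))) (nd 3166 (nd 3165 (lf (nat_lit 0x60013)) (lf (nat_lit 0x20013))) (nd 3167 (lf (nat_lit 0x70013)) (lf (nat_lit 0x70013))))))) (nd 3184 (nd 3176 (nd 3172 (nd 3170 (nd 3169 (lf (nat_lit 0x20015)) (lf (nat_lit 0x90011))) (nd 3171 (lf (nat_lit 0x70015)) (lf (nat_lit 0x60015)))) (nd 3174 (nd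 3173 (lf (nat_lit 0x70015)) (lf (nat_lit 0x60015))) (nd 3175 (lf (nat_lit 0x40013)) (lf (nat_lit 0x90013))))) (nd 3180 (nd 3178 (nd 3177 (lf (nat_lit 0x20011)) (lf (nat_lit 0x20013))) (nd 3179 (lf (nat_lit 0x20013)) (lf (nat_lit 0x30015)))) (nd 3182 (nd 3181 (lf (nat_lit 0x20015)) (lf (nat_lit 0x70013))) (nd 3183 (lf (nat_lit 0x60013)) (lf (nat_lit 0x40013)))))) (nd 3192 (nd 3188 (nd 3186 (nd 3185 (lf (nat_lit 0x70013)) (lf (nat_lit 0x60013))) (nd 3187 (lf (nat_lit 0x70013)) (lf (nat_lit 0x60013)))) (nd 3190 (nd 3189 (lf (nat_lit 0x60015)) (lf (nat_lit 0x70013))) (nd 3191 (lf (nat_lit 0x60013)) (lf (nat_lit 0x90013))))) (nd 3196 (nd 3194 (nd 3193 (lf (nat_lit 0x90013)) (lf (nat_lit 0x70015))) (nd 3195 (lf (nat_lit 0x60015)) (lf (nat_lit 0x70013)))) (nd 3198 (nd 3197 (lf (nat_lit 0x60013)) (lf (nat_lit 0x40013))) (nd 3199 (lf (nat_lit 0x70013))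 (lf (nat_lit 0x60013))))))))) (nd 3264 (nd 3232 (nd 3216 (nd 3208 (nd 3204 (nd 3202 (nd 3201 (lf (nat_lit 0x70013)) (lf (nat_lit 0x90013))) (nd 3203 (lf (nat_lit 0x70013)) (lf (nat_lit 0x60013)))) (nd 3206 (nd 3205 (lf (nat_lit 0x90013)) (lf (nat_lit 0x70015))) (nd 3207 (lf (nat_lit 0x60015)) (lf (nat_lit 0x70013))))) (nd 3212 (nd 3210 (nd 3209 (lf (nat_lit 0x60015)) (lf (nat_lit 0x90015))) (nd 3211 (lf (nat_lit 0x70013)) (lf (nat_lit 0x60013)))) (nd 3214 (nd 3213 (lf (nat_lit 0x20013)) (lf (nat_lit 0x60013))) (nd 3215 (lf (nat_lit 0x40015)) (lf (nat_lit 0x90015)))))) (nd 3224 (nd 3220 (nd 3218 (nd 3217 (lf (nat_lit 0x6000f)) (lf (nat_lit 0x9000f00000000))) (nd 3219 (lf (nat_lit 0x60015)) (lf (nat_lit 0x60015)))) (nd 3222 (nd 3221 (lf (nat_lit 0x70011)) (lf (nat_lit 0x30015))) (nd 3223 (lf (nat_lit 0x60011)) (lf (nat_lit 0x90013))))) (nd 3228 (nd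 3226 (nd 3225 (lf (nat_lit 0x60011)) (lf (nat_lit 0x60017))) (nd 3227 (lf (nat_lit 0x70013)) (lf (nat_lit 0x60015)))) (nd 3230 (nd 3229 (lf (nat_lit 0x70013)) (lf (nat_lit 0x70013))) (nd 3231 (lf (nat_lit 0x60015)) (lf (nat_lit 0x70013))))))) (nd 3248 (nd 3240 (nd 3236 (nd 3234 (nd 3233 (lf (nat_lit 0x90015)) (lf (nat_lit 0x60015))) (nd 3235 (lf (nat_lit 0x90013)) (lf (nat_lit 0x90013)))) (nd 3238 (nd 3237 (lf (nat_lit 0x70013)) (lf (nat_lit 0x60015))) (nd 3239 (lf (nat_lit 0x70013)) (lf (nat_lit 0x60013))))) (nd 3244 (nd 3242 (nd 3241 (lf (nat_lit 0x60013)) (lf (nat_lit 0x70013))) (nd 3243 (lf (nat_lit 0x70013)) (lf (nat_lit 0x60013)))) (nd 3246 (nd 3245 (lf (nat_lit 0x70013)) (lf (nat_lit 0x60015))) (nd 3247 (lf (nat_lit 0x90015)) (lf (nat_lit 0x70013)))))) (nd 3256 (nd 3252 (nd 3250 (nd 3249 (lf (nat_lit 0x60015)) (lf (nat_lit 0x90013))) (nd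 3251 (lf (nat_lit 0x90013)) (lf (nat_lit 0x90013)))) (nd 3254 (nd 3253 (lf (nat_lit 0x90015)) (lf (nat_lit 0x60015))) (nd 3255 (lf (nat_lit 0x60013)) (lf (nat_lit 0x70013))))) (nd 3260 (nd 3258 (nd 3257 (lf (nat_lit 0x70013)) (lf (nat_lit 0x60013))) (nd 3259 (lf (nat_lit 0x70015)) (lf (nat_lit 0x60015)))) (nd 3262 (nd 3261 (lf (nat_lit 0x60015)) (lf (nat_lit 0x20015))) (nd 3263 (lf (nat_lit 0x60013)) (lf (nat_lit 0x70013)))))))) (nd 3296 (nd 3280 (nd 3272 (nd 3268 (nd 3266 (nd 3265 (lf (nat_lit 0x60013)) (lf (nat_lit 0x60015))) (nd 3267 (lf (nat_lit 0x90015)) (lf (nat_lit 0x60013)))) (nd 3270 (nd 3269 (lf (nat_lit 0x20013)) (lf (nat_lit 0x40015))) (nd 3271 (lf (nat_lit 0x6001000000000)) (lf (nat_lit 0x6001000000000))))) (nd 3276 (nd 3274 (nd 3273 (lf (nat_lit 0x60010)) (lf (nat_lit 0x40012))) (nd 3275 (lf (nat_lit 0x60012)) (lf (nat_lit 0x60010))))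 (nd 3278 (nd 3277 (lf (nat_lit 0x90012)) (lf (nat_lit 0x20012))) (nd 3279 (lf (nat_lit 0x20012)) (lf (nat_lit 0x60012)))))) (nd 3288 (nd 3284 (nd 3282 (nd 3281 (lf (nat_lit 0x9001000000000)) (lf (nat_lit 0x90012))) (nd 3283 (lf (nat_lit 0x90012)) (lf (nat_lit 0x9001000000000)))) (nd 3286 (nd 3285 (lf (nat_lit 0x70014)) (lf (nat_lit 0x70014))) (nd 3287 (lf (nat_lit 0x60014)) (lf (nat_lit 0x70014))))) (nd 3292 (nd 3290 (nd 3289 (lf (nat_lit 0x60014)) (lf (nat_lit 0x60014))) (nd 3291 (lf (nat_lit 0x40014)) (lf (nat_lit 0x40014)))) (nd 3294 (nd 3293 (lf (nat_lit 0x20014)) (lf (nat_lit 0x30014))) (nd 3295 (lf (nat_lit 0x70014)) (lf (nat_lit 0x20016))))))) (nd 3312 (nd 3304 (nd 3300 (nd 3298 (nd 3297 (lf (nat_lit 0x40012)) (lf (nat_lit 0x70014))) (nd 3299 (lf (nat_lit 0x70014)) (lf (nat_lit 0x70014)))) (nd 3302 (nd 3301 (lf (nat_lit 0x20016)) (lf (nat_lit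 0x70014))) (nd 3303 (lf (nat_lit 0x20014)) (lf (nat_lit 0x30014))))) (nd 3308 (nd 3306 (nd 3305 (lf (nat_lit 0x70012)) (lf (nat_lit 0x60014))) (nd 3307 (lf (nat_lit 0x60012)) (lf (nat_lit 0x20014)))) (nd 3310 (nd 3309 (lf (nat_lit 0x40014)) (lf (nat_lit 0x60014))) (nd 3311 (lf (nat_lit 0x70014)) (lf (nat_lit 0x60016)))))) (nd 3320 (nd 3316 (nd 3314 (nd 3313 (lf (nat_lit 0x70014)) (lf (nat_lit 0x60016))) (nd 3315 (lf (nat_lit 0x70012)) (lf (nat_lit 0x60014)))) (nd 3318 (nd 3317 (lf (nat_lit 0x70014)) (lf (nat_lit 0x60014))) (nd 3319 (lf (nat_lit 0x40016)) (lf (nat_lit 0x70012))))) (nd 3324 (nd 3322 (nd 3321 (lf (nat_lit 0x60014)) (lf (nat_lit 0x20016))) (nd 3323 (lf (nat_lit 0x60012)) (lf (nat_lit 0x20014)))) (nd 3326 (nd 3325 (lf (nat_lit 0x90014)) (lf (nat_lit 0x30012))) (nd 3327 (lf (nat_lit 0x30014)) (lf (nat_lit 0x20014))))))))))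
noncomputable def um_lab_c13 : ℕ → ℕ := (nd 3419 (nd 3373 (nd 3350 (nd 3339 (nd 3333 (nd 3330 (nd 3329 (lf (nat_lit 0x90012)) (lf (nat_lit 0x60014))) (nd 3331 (lf (nat_lit 0x60014)) (nd 3332 (lf (nat_lit 0x90012)) (lf (nat_lit 0x60016))))) (nd 3336 (nd 3334 (lf (nat_lit 0x60016)) (nd 3335 (lf (nat_lit 0x90014)) (lf (nat_lit 0x40014)))) (nd 3337 (lf (nat_lit 0x90014)) (nd 3338 (lf (nat_lit 0x20014)) (lf (nat_lit 0x20014)))))) (nd 3344 (nd 3341 (nd 3340 (lf (nat_lit 0x30016)) (lf (nat_lit 0x60014))) (nd 3342 (lf (nat_lit 0x70014)) (nd 3343 (lf (nat_lit 0x60014)) (lf (nat_lit 0x60014))))) (nd 3347 (nd 3345 (lf (nat_lit 0x90014)) (nd 3346 (lf (nat_lit 0x60014)) (lf (nat_lit 0x20014)))) (nd 3348 (lf (nat_lit 0x90014)) (nd 3349 (lf (nat_lit 0x70014)) (lf (nat_lit 0x60016))))))) (nd 3361 (nd 3355 (nd 3352 (nd 3351 (lf (nat_lit 0x20016)) (lf (nat_lit 0x60014)))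 (nd 3353 (lf (nat_lit 0x70014)) (nd 3354 (lf (nat_lit 0x60014)) (lf (nat_lit 0x20014))))) (nd 3358 (nd 3356 (lf (nat_lit 0x60014)) (nd 3357 (lf (nat_lit 0x70014)) (lf (nat_lit 0x60014)))) (nd 3359 (lf (nat_lit 0x70014)) (nd 3360 (lf (nat_lit 0x60016)) (lf (nat_lit 0x20016)))))) (nd 3367 (nd 3364 (nd 3362 (lf (nat_lit 0x60014)) (nd 3363 (lf (nat_lit 0x40016)) (lf (nat_lit 0x90016)))) (nd 3365 (lf (nat_lit 0x60014)) (nd 3366 (lf (nat_lit 0x20014)) (lf (nat_lit 0x90014))))) (nd 3370 (nd 3368 (lf (nat_lit 0x90014)) (nd 3369 (lf (nat_lit 0x40016)) (lf (nat_lit 0x90010)))) (nd 3371 (lf (nat_lit 0x60012)) (nd 3372 (lf (nat_lit 0x90014)) (lf (nat_lit 0x20012)))))))) (nd 3396 (nd 3384 (nd 3378 (nd 3375 (nd 3374 (lf (nat_lit 0x60014)) (lf (nat_lit 0x60014))) (nd 3376 (lf (nat_lit 0x60014)) (nd 3377 (lf (nat_lit 0x60014)) (lf (nat_lit 0x90014))))) (nd 3381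 (nd 3379 (lf (nat_lit 0x60014)) (nd 3380 (lf (nat_lit 0x70016)) (lf (nat_lit 0x60014)))) (nd 3382 (lf (nat_lit 0x90014)) (nd 3383 (lf (nat_lit 0x60014)) (lf (nat_lit 0x60014)))))) (nd 3390 (nd 3387 (nd 3385 (lf (nat_lit 0x20014)) (nd 3386 (lf (nat_lit 0x60014)) (lf (nat_lit 0x70016)))) (nd 3388 (lf (nat_lit 0x90016)) (nd 3389 (lf (nat_lit 0x60014)) (lf (nat_lit 0x70014))))) (nd 3393 (nd 3391 (lf (nat_lit 0x60014)) (nd 3392 (lf (nat_lit 0x60014)) (lf (nat_lit 0x60016)))) (nd 3394 (lf (nat_lit 0x20016)) (nd 3395 (lf (nat_lit 0x60014)) (lf (nat_lit 0x20014))))))) (nd 3407 (nd 3401 (nd 3398 (nd 3397 (lf (nat_lit 0x40016)) (lf (nat_lit 0x20014))) (nd 3399 (lf (nat_lit 0x10014)) (nd 3400 (lf (nat_lit 0x2001100000000)) (lf (nat_lit 0x2001100000000))))) (nd 3404 (nd 3402 (lf (nat_lit 0x90011)) (nd 3403 (lf (nat_lit 0x90011)) (lf (nat_lit 0x90011)))) (nd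 3405 (lf (nat_lit 0x90011)) (nd 3406 (lf (nat_lit 0x60015)) (lf (nat_lit 0x60015)))))) (nd 3413 (nd 3410 (nd 3408 (lf (nat_lit 0x60015)) (nd 3409 (lf (nat_lit 0x40015)) (lf (nat_lit 0x40015)))) (nd 3411 (lf (nat_lit 0x90015)) (nd 3412 (lf (nat_lit 0x10015)) (lf (nat_lit 0x20015))))) (nd 3416 (nd 3414 (lf (nat_lit 0x30015)) (nd 3415 (lf (nat_lit 0x60015)) (lf (nat_lit 0x40013)))) (nd 3417 (lf (nat_lit 0x60015)) (nd 3418 (lf (nat_lit 0x60015)) (lf (nat_lit 0x60015))))))))) (nd 3464 (nd 3441 (nd 3430 (nd 3424 (nd 3421 (nd 3420 (lf (nat_lit 0x60015)) (lf (nat_lit 0x40015))) (nd 3422 (lf (nat_lit 0x60013)) (nd 3423 (lf (nat_lit 0x20015)) (lf (nat_lit 0x20013))))) (nd 3427 (nd 3425 (lf (nat_lit 0x60015)) (nd 3426 (lf (nat_lit 0x70017)) (lf (nat_lit 0x60015)))) (nd 3428 (lf (nat_lit 0x20017)) (nd 3429 (lf (nat_lit 0x60013)) (lf (nat_lit 0x60015))))))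 (nd 3435 (nd 3432 (nd 3431 (lf (nat_lit 0x30015)) (lf (nat_lit 0x20015))) (nd 3433 (lf (nat_lit 0x60013)) (nd 3434 (lf (nat_lit 0x20015)) (lf (nat_lit 0x20015))))) (nd 3438 (nd 3436 (lf (nat_lit 0x20013)) (nd 3437 (lf (nat_lit 0x30013)) (lf (nat_lit 0x20015)))) (nd 3439 (lf (nat_lit 0x20015)) (nd 3440 (lf (nat_lit 0x90013)) (lf (nat_lit 0x70015))))))) (nd 3452 (nd 3446 (nd 3443 (nd 3442 (lf (nat_lit 0x40015)) (lf (nat_lit 0x90015))) (nd 3444 (lf (nat_lit 0x70015)) (nd 3445 (lf (nat_lit 0x20015)) (lf (nat_lit 0x60015))))) (nd 3449 (nd 3447 (lf (nat_lit 0x20015)) (nd 3448 (lf (nat_lit 0x20015)) (lf (nat_lit 0x90015)))) (nd 3450 (lf (nat_lit 0x60015)) (nd 3451 (lf (nat_lit 0x20017)) (lf (nat_lit 0x90017)))))) (nd 3458 (nd 3455 (nd 3453 (lf (nat_lit 0x20015)) (nd 3454 (lf (nat_lit 0x60015)) (lf (nat_lit 0x20015)))) (nd 3456 (lf (nat_lit 0x90015)) (nd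 3457 (lf (nat_lit 0x60015)) (lf (nat_lit 0x30015))))) (nd 3461 (nd 3459 (lf (nat_lit 0x60015)) (nd 3460 (lf (nat_lit 0x20017)) (lf (nat_lit 0x10017)))) (nd 3462 (lf (nat_lit 0x30015)) (nd 3463 (lf (nat_lit 0x40017)) (lf (nat_lit 0x40015)))))))) (nd 3487 (nd 3475 (nd 3469 (nd 3466 (nd 3465 (lf (nat_lit 0x30015)) (lf (nat_lit 0x20013))) (nd 3467 (lf (nat_lit 0x70015)) (nd 3468 (lf (nat_lit 0x70015)) (lf (nat_lit 0x20015))))) (nd 3472 (nd 3470 (lf (nat_lit 0x20015)) (nd 3471 (lf (nat_lit 0x20015)) (lf (nat_lit 0x20015)))) (nd 3473 (lf (nat_lit 0x20015)) (nd 3474 (lf (nat_lit 0x20017)) (lf (nat_lit 0x20015)))))) (nd 3481 (nd 3478 (nd 3476 (lf (nat_lit 0x10015)) (nd 3477 (lf (nat_lit 0x20016)) (lf (nat_lit 0x20016)))) (nd 3479 (lf (nat_lit 0x20016)) (nd 3480 (lf (nat_lit 0x10016)) (lf (nat_lit 0x30016))))) (nd 3484 (nd 3482 (lf (nat_lit 0x30016)) (nd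 3483 (lf (nat_lit 0x70016)) (lf (nat_lit 0x40014)))) (nd 3485 (lf (nat_lit 0x70016)) (nd 3486 (lf (nat_lit 0x20016)) (lf (nat_lit 0x20014))))))) (nd 3498 (nd 3492 (nd 3489 (nd 3488 (lf (nat_lit 0x30016)) (lf (nat_lit 0x20016))) (nd 3490 (lf (nat_lit 0x20016)) (nd 3491 (lf (nat_lit 0x20016)) (lf (nat_lit 0x20014))))) (nd 3495 (nd 3493 (lf (nat_lit 0x30014)) (nd 3494 (lf (nat_lit 0x20014)) (lf (nat_lit 0x20016)))) (nd 3496 (lf (nat_lit 0x20016)) (nd 3497 (lf (nat_lit 0x90016)) (lf (nat_lit 0x10016)))))) (nd 3504 (nd 3501 (nd 3499 (lf (nat_lit 0x30016)) (nd 3500 (lf (nat_lit 0x30016)) (lf (nat_lit 0x40016)))) (nd 3502 (lf (nat_lit 0x30016)) (nd 3503 (lf (nat_lit 0x20016)) (lf (nat_lit 0x90016))))) (nd 3507 (nd 3505 (lf (nat_lit 0x10016)) (nd 3506 (lf (nat_lit 0x10017)) (lf (nat_lit 0x30017)))) (nd 3508 (lf (nat_lit 0x30017)) (nd 3509 (lf (nat_lit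 0x90017)) (lf (nat_lit 0x30017))))))))))
noncomputable def um_lab : ℕ → ℕ := (nd 1792 (nd 768 (nd 256 um_lab_c0 (nd 512 um_lab_c1 um_lab_c2)) (nd 1280 (nd 1024 um_lab_c3 um_lab_c4) (nd 1536 um_lab_c5 um_lab_c6))) (nd 2560 (nd 2048 um_lab_c7 (nd 2304 um_lab_c8 um_lab_c9)) (nd 3072 (nd 2816 um_lab_c10 um_lab_c11) (nd 3328 um_lab_c12 um_lab_c13))))
def um_wsA : List (List Fi22.Gen) := [[.a], [.c], [.d], [.e], [.f], [.g], [.h], [.i], [.a, .b, .c, .d, .e, .h, .a, .b, .c, .d, .e, .h, .a, .b, .c, .d, .e, .h, .a, .b, .c, .d, .e, .h, .a, .b, .c, .d, .e, .h], [.h, .e, .d, .c, .b, .a, .h, .e, .d, .c, .b, .a, .h, .e, .d, .c, .b, .a, .h, .e, .d, .c, .b, .a, .h, .e, .d, .c, .b, .a]]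
def um_wsB : List (List Fi22.Gen) := [[.a], [.c], [.d], [.e], [.f], [.g], [.h], [.i], [.a, .b, .c, .d, .e, .h, .a, .b, .c, .d, .e, .h, .a, .b, .c, .d, .e, .h, .a, .b, .c, .d, .e, .h, .a, .b, .c, .d, .e, .h], [.h, .e, .d, .c, .b, .a, .h, .e, .d, .c, .b, .a, .h, .e, .d, .c, .b, .a, .h, .e, .d, .c, .b, .a, .h, .e, .d, .c, .b, .a]]

end Cfsg.Agent.H10.U6A
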